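import Cfsg.Agent.SympSylowTwo.Model
import Cfsg.Agent.Classical.SylowTwoSL

/-!
Blocks of hyperbolic planes in `Sp` and monomial elements.
-/

set_option autoImplicit false
set_option linter.unusedSectionVars false

namespace CfsgLib.PronormalPSp

open Matrix CfsgLib.SL2C CfsgLib.Symp CfsgLib.SympSylowTwo

variable {F : Type*} [Field F]
variable {α : Type*} [Fintype α] [DecidableEq α]

/-- Vectors. -/
abbrev Vec (α F : Type*) : Type _ := α ⊕ α → F

/-- The symplectic group. -/
abbrev Spg (α F : Type*) [Fintype α] [DecidableEq α] [Field F] : Type _ :=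
  Matrix.symplecticGroup α F

/-- The coordinates of a vector on one plane. -/
def bl (a : α) : Vec α F →ₗ[F] (Fin 2 → F) where
  toFun v := ![v (.inl a), v (.inr a)]
  map_add' u v := by ext k; fin_cases k <;> rfl
  map_smul' c v := by ext k; fin_cases k <;> rfl

/-- The embedding of one plane. -/
def emb (a : α) : (Fin 2 → F) →ₗ[F] Vec α F where
  toFun x := Pi.single (.inl a) (x 0) + Pi.single (.inr a) (x 1)
  map_add' u v := by
    simp only [Pi.add_apply, Pi.single_add]
    abel
  map_smul' c v := by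
    simp only [Pi.smul_apply, smul_eq_mul, RingHom.id_apply, smul_add]
    congr 1 <;> · rw [← Pi.single_smul']; rfl

/-- The alternating form of one plane. -/
def det2 (x y : Fin 2 → F) : F := x 1 * y 0 - x 0 * y 1

theorem bl_ext {u v : Vec α F} (h : ∀ a, bl a u = bl a v) : u = v := by
  funext k
  rcases k with a | a
  · exact congrFun (h a) 0
  · exact congrFun (h a) 1

@[simp] theorem bl_emb_self (a : α) (x : Fin 2 → F) : bl a (emb a x) = x := by
  ext k; fin_cases k <;> simp [bl, emb]

theorem bl_emb_ne {a b : α} (h : b ≠ a) (x : Fin 2 → F) : bl b (emb a x) = 0 := by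
  ext k; fin_cases k <;> simp [bl, emb, h]

theorem emb_injective (a : α) : Function.Injective (emb (F := F) a) := fun x y h => by
  simpa using congrArg (bl a) h

theorem eq_emb {a : α} {v : Vec α F} (h : ∀ b, b ≠ a → bl b v = 0) : v = emb a (bl a v) :=
  bl_ext fun b => by
    rcases eq_or_ne b a with rfl | hb
    · simp
    · rw [h b hb, bl_emb_ne hb]

theorem form_eq (u v : Vec α F) : form u v = ∑ a, det2 (bl a u) (bl a v) := by
  rw [form_apply]
  rfl

theorem form_emb_left (a : α) (x : Fin 2 → F) (v : Vec α F) : form (emb a x) v = det2 x (bl a v) := by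
  rw [form_eq, Finset.sum_eq_single a (fun b _ hb => by simp [bl_emb_ne hb, det2]) (by simp),
    bl_emb_self]

theorem form_emb_right (a : α) (x : Fin 2 → F) (v : Vec α F) : form v (emb a x) = det2 (bl a v) x := by
  rw [form_swap, form_emb_left]
  simp [det2]
  ring

theorem det2_self (x : Fin 2 → F) : det2 x x = 0 := by
  simp [det2, mul_comm]

theorem det2_eq_zero {x : Fin 2 → F} (h : ∀ y, det2 x y = 0) : x = 0 := by
  have h0 := h ![1, 0]
  have h1 := h ![0, 1]
  simp [det2] at h0 h1
  ext k; fin_cases k <;> simp_all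

theorem eq_smul_of_det2 {x y : Fin 2 → F} (hx : x ≠ 0) (h : det2 x y = 0) : ∃ c : F, y = c • x := by
  rw [det2, sub_eq_zero] at h
  by_cases h0 : x 0 = 0
  · have h1 : x 1 ≠ 0 := fun e => hx (by ext k; fin_cases k <;> simp [h0, e])
    refine ⟨y 1 / x 1, ?_⟩
    rw [h0, zero_mul] at h
    have hy : y 0 = 0 := by simpa [h1] using h
    ext k; fin_cases k <;> simp [h0, hy, h1]
  · refine ⟨y 0 / x 0, ?_⟩
    ext k; fin_cases k <;> simp [h0]
    field_simp
    linear_combination -h

theorem det2_mulVec (g : SL F) (x y : Fin 2 → F) :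
    det2 (mt g *ᵥ x) (mt g *ᵥ y) = det2 x y := by
  have h := det_mt g
  rw [Matrix.det_fin_two] at h
  simp only [det2, Matrix.mulVec, dotProduct, Fin.sum_univ_two]
  linear_combination (x 1 * y 0 - x 0 * y 1) * h

theorem det2_mulVec_left (g : SL F) (x y : Fin 2 → F) :
    det2 (mt g *ᵥ x) y = det2 x (mt g⁻¹ *ᵥ y) := by
  rw [← det2_mulVec g x (mt g⁻¹ *ᵥ y), Matrix.mulVec_mulVec, ← mt_mul, mul_inv_cancel, mt_one,
    Matrix.one_mulVec]

theorem bl_base (f : α → SL F) (v : Vec α F) (a : α) :
    bl a (baseHom f • v) = mt (f a) *ᵥ bl a v := by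
  ext k; fin_cases k
  · simp [bl, baseHom_inl, Matrix.mulVec, dotProduct, Fin.sum_univ_two]
  · simp [bl, baseHom_inr, Matrix.mulVec, dotProduct, Fin.sum_univ_two]

theorem bl_perm (σ : Equiv.Perm α) (v : Vec α F) (a : α) :
    bl a (permHom (F := F) σ • v) = bl (σ.symm a) v := by
  ext k; fin_cases k <;> simp [bl, permHom_smul]

theorem smul_emb_perm (σ : Equiv.Perm α) (a : α) (x : Fin 2 → F) :
    permHom (F := F) σ • emb a x = emb (σ a) x := bl_ext fun b => by
  rw [bl_perm]
  rcases eq_or_ne b (σ a) with rfl | hb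
  · simp
  · rw [bl_emb_ne hb, bl_emb_ne]
    intro e; exact hb (by rw [← e]; simp)

theorem smul_emb_base (f : α → SL F) (a : α) (x : Fin 2 → F) :
    baseHom f • emb a x = emb a (mt (f a) *ᵥ x) := bl_ext fun b => by
  rw [bl_base]
  rcases eq_or_ne b a with rfl | hb
  · simp
  · rw [bl_emb_ne hb, bl_emb_ne hb, Matrix.mulVec_zero]

theorem smul_emb_mono (f : α → SL F) (σ : Equiv.Perm α) (a : α) (x : Fin 2 → F) :
    (baseHom f * permHom σ) • emb a x = emb (σ a) (mt (f (σ a)) *ᵥ x) := by
  rw [mul_smul, smul_emb_perm, smul_emb_base]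

theorem bl_mono (f : α → SL F) (σ : Equiv.Perm α) (v : Vec α F) (a : α) :
    bl a ((baseHom f * permHom σ) • v) = mt (f a) *ᵥ bl (σ.symm a) v := by
  rw [mul_smul, bl_base, bl_perm]

theorem mono_mul (f g : α → SL F) (σ τ : Equiv.Perm α) :
    (baseHom f * permHom σ) * (baseHom g * permHom τ) =
      baseHom (fun a => f a * g (σ.symm a)) * permHom (σ * τ) := by
  have h := conj_base σ g
  rw [show (fun a => f a * g (σ.symm a)) = f * fun a => g (σ.symm a) from rfl, map_mul, map_mul, ← h]
  group

theorem mono_inv (f : α → SL F) (σ : Equiv.Perm α) :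
    (baseHom f * permHom σ)⁻¹ = baseHom (fun a => (f (σ a))⁻¹) * permHom σ⁻¹ := by
  refine inv_eq_of_mul_eq_one_right ?_
  rw [mono_mul, mul_inv_cancel, map_one, mul_one, ← map_one (baseHom (a := α) (F := F))]
  congr 1
  funext a
  simp

/-- The monomial subgroup. -/
def Mon (α F : Type*) [Fintype α] [DecidableEq α] [Field F] : Subgroup (Spg α F) where
  carrier := {g | ∃ (f : α → SL F) (σ : Equiv.Perm α), g = baseHom f * permHom σ}
  one_mem' := ⟨1, 1, by simp⟩
  mul_mem' := by
    rintro _ _ ⟨f, σ, rfl⟩ ⟨g, τ, rfl⟩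
    exact ⟨_, _, mono_mul f g σ τ⟩
  inv_mem' := by
    rintro _ ⟨f, σ, rfl⟩
    exact ⟨_, _, mono_inv f σ⟩

theorem base_mem_Mon (f : α → SL F) : baseHom f ∈ Mon α F := ⟨f, 1, by simp⟩

/-- One coordinate of the base. -/
def rho (a : α) : SL F →* Spg α F := baseHom.comp (MonoidHom.mulSingle (fun _ : α => SL F) a)

theorem rho_apply (a : α) (g : SL F) : rho a g = baseHom (Pi.mulSingle a g) := rfl

theorem rho_mem_Mon (a : α) (g : SL F) : rho a g ∈ Mon α F := base_mem_Mon _

theorem bl_rho_self (a : α) (g : SL F) (v : Vec α F) : bl a (rho a g • v) = mt g *ᵥ bl a v := by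
  rw [rho_apply, bl_base, Pi.mulSingle_eq_same]

theorem bl_rho_ne {a b : α} (h : b ≠ a) (g : SL F) (v : Vec α F) : bl b (rho a g • v) = bl b v := by
  rw [rho_apply, bl_base, Pi.mulSingle_eq_of_ne h, mt_one, Matrix.one_mulVec]

theorem rho_fix {a : α} (g : SL F) {v : Vec α F} (h : bl a v = 0) : rho a g • v = v := bl_ext fun b => by
  rcases eq_or_ne b a with rfl | hb
  · rw [bl_rho_self, h, Matrix.mulVec_zero]
  · rw [bl_rho_ne hb]

theorem rho_injective (a : α) : Function.Injective (rho (F := F) a) := fun x y h => by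
  have := baseHom_injective (a := α) (F := F) h
  exact Pi.mulSingle_injective a this

theorem rho_commute {a b : α} (h : a ≠ b) (x y : SL F) : Commute (rho a x) (rho b y) :=
  (Pi.mulSingle_commute (f := fun _ : α => SL F) h x y).map baseHom

section invol

variable [Fintype F]

theorem mulVec_negOne (x : Fin 2 → F) : mt (negOne F) *ᵥ x = -x := by
  rw [mt_negOne, Matrix.neg_mulVec, Matrix.one_mulVec]

/-- The reflection of one plane. -/
noncomputable def tInv (a : α) : Spg α F := rho a (negOne F)

theorem bl_tInv_self (a : α) (v : Vec α F) : bl a (tInv (F := F) a • v) = -bl a v := by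
  rw [tInv, bl_rho_self, mulVec_negOne]

theorem bl_tInv_ne {a b : α} (h : b ≠ a) (v : Vec α F) : bl b (tInv (F := F) a • v) = bl b v := bl_rho_ne h _ _

theorem tInv_sq (a : α) : tInv (F := F) a * tInv a = 1 := by
  rw [tInv, ← map_mul, CfsgLib.SL2C.negOne, ← map_mul]
  simp

theorem neg_eq_self (hodd : Odd (Fintype.card F)) {x : Fin 2 → F} (h : -x = x) : x = 0 := by
  have h2 : (2 : F) ≠ 0 := two_ne_zero_of_odd hodd
  funext k
  have := congrFun h k
  simp only [Pi.neg_apply] at this
  exact (mul_eq_zero.1 (show (2 : F) * x k = 0 by linear_combination -this)).resolve_left h2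

theorem tInv_ne_one (hodd : Odd (Fintype.card F)) (a : α) : tInv (F := F) a ≠ 1 := fun h =>
  negOne_ne_one hodd (rho_injective (α := α) a (h.trans (map_one _).symm))

theorem orderOf_tInv (hodd : Odd (Fintype.card F)) (a : α) : orderOf (tInv (F := F) a) = 2 :=
  orderOf_eq_prime (by rw [pow_two, tInv_sq]) (tInv_ne_one hodd a)

theorem tInv_neg_iff (hodd : Odd (Fintype.card F)) {a : α} {v : Vec α F} :
    tInv (F := F) a • v = -v ↔ ∀ b, b ≠ a → bl b v = 0 := by
  constructor
  · intro h b hb
    have := congrArg (bl b) h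
    rw [bl_tInv_ne hb, map_neg] at this
    exact neg_eq_self hodd this.symm
  · intro h
    refine bl_ext fun b => ?_
    rw [map_neg]
    rcases eq_or_ne b a with rfl | hb
    · rw [bl_tInv_self]
    · rw [bl_tInv_ne hb, h b hb, neg_zero]

theorem tInv_fix_iff (hodd : Odd (Fintype.card F)) {a : α} {v : Vec α F} :
    tInv (F := F) a • v = v ↔ bl a v = 0 := by
  refine ⟨fun h => ?_, fun h => rho_fix _ h⟩
  have := congrArg (bl a) h
  rw [bl_tInv_self] at this
  exact neg_eq_self hodd this

theorem tInv_injective (hodd : Odd (Fintype.card F)) :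
    Function.Injective (tInv (α := α) (F := F)) := by
  intro a b h
  by_contra hne
  have h1 : tInv (F := F) a • emb a (![1, 0] : Fin 2 → F) = emb a ![1, 0] := by
    rw [h]; exact rho_fix _ (bl_emb_ne (Ne.symm hne) _)
  rw [tInv_fix_iff hodd, bl_emb_self] at h1
  simpa using congrFun h1 0

/-- An element carrying every plane to a plane is monomial. -/
theorem mem_Mon_of_conj (hodd : Odd (Fintype.card F)) {g : Spg α F}
    (h : ∀ a, ∃ b, g * tInv a * g⁻¹ = tInv b) : g ∈ Mon α F := by
  choose s hs using h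
  have hinj : Function.Injective s := fun a b e => tInv_injective hodd (by
    have := (hs a).trans ((congrArg (fun c => tInv (F := F) c) e).trans (hs b).symm)
    exact mul_left_cancel (mul_right_cancel this))
  let σ : Equiv.Perm α := Equiv.ofBijective s hinj.bijective_of_finite
  set k := (permHom σ)⁻¹ * g with hk
  have hkeep : ∀ (a : α) (x : Fin 2 → F), k • emb a x = emb a (bl a (k • emb a x)) := by
    intro a x
    refine eq_emb fun b hb => ?_
    have h1 : tInv (F := F) (s a) • g • emb a x = -(g • emb a x) := by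
      rw [← hs a, mul_smul, mul_smul, inv_smul_smul,
        (tInv_neg_iff hodd).2 fun c hc => bl_emb_ne hc x, smul_neg]
    rw [hk, ← map_inv, mul_smul, bl_perm]
    refine (tInv_neg_iff hodd).1 h1 _ fun e => hb ?_
    apply σ.injective
    simpa [σ, Equiv.Perm.inv_def] using e
  let M : α → Matrix (Fin 2) (Fin 2) F := fun a =>
    LinearMap.toMatrix' ((bl a).comp ((Matrix.mulVecLin k.1).comp (emb a)))
  have hM : ∀ a x, M a *ᵥ x = bl a (k • emb a x) := fun a x => by
    simp only [M, LinearMap.toMatrix'_mulVec]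
    rfl
  have hform : ∀ a x y, det2 (M a *ᵥ x) (M a *ᵥ y) = det2 x y := by
    intro a x y
    rw [hM, hM, ← form_emb_left a _ (k • emb a y), ← hkeep, form_smul_smul, form_emb_left,
      bl_emb_self]
  have hdet : ∀ a, (M a).det = 1 := by
    intro a
    have := hform a ![0, 1] ![1, 0]
    simp [det2, Matrix.mulVec, dotProduct, Fin.sum_univ_two] at this
    rw [Matrix.det_fin_two]
    linear_combination this
  let fM : α → SL F := fun a => ⟨M a, hdet a⟩
  have hk' : k = baseHom fM := by
    have hgen : ∀ v : Vec α F, v = ∑ a, emb a (bl a v) := fun v => bl_ext fun b => by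
      rw [map_sum, Finset.sum_eq_single b (fun c _ hc => bl_emb_ne (Ne.symm hc) _) (by simp),
        bl_emb_self]
    refine symp_ext fun v => ?_
    rw [hgen v, Finset.smul_sum, Finset.smul_sum]
    refine Finset.sum_congr rfl fun a _ => ?_
    rw [hkeep, smul_emb_base, ← hM]
  have : g = permHom σ * k := by rw [hk, mul_inv_cancel_left]
  rw [this, hk']
  exact mul_mem ⟨1, σ, by simp⟩ (base_mem_Mon _)

/-- An element fixing a plane pointwise commutes with its reflection. -/
theorem commute_tInv_of_fix (hodd : Odd (Fintype.card F)) {g : Spg α F} {a : α}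
    (h : ∀ x : Fin 2 → F, g • emb a x = emb a x) : g * tInv (F := F) a = tInv a * g := by
  have hb : ∀ v : Vec α F, bl a v = 0 → bl a (g • v) = 0 := fun v hv => det2_eq_zero fun y => by
    rw [← form_emb_right a y (g • v), ← h y, form_smul_smul, form_emb_right, hv]
    simp [det2]
  refine symp_ext fun v => ?_
  have hsplit : ∀ w : Vec α F, tInv (F := F) a • w = w - (emb a (bl a w) + emb a (bl a w)) := by
    intro w
    refine bl_ext fun b => ?_
    rcases eq_or_ne b a with rfl | hne
    · rw [bl_tInv_self, map_sub, map_add, bl_emb_self]; abel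
    · rw [bl_tInv_ne hne, map_sub, map_add, bl_emb_ne hne]; simp
  have h0 : bl a (v - emb a (bl a v)) = 0 := by simp
  have h1 := hb _ h0
  rw [smul_sub, h, map_sub, bl_emb_self, sub_eq_zero] at h1
  rw [mul_smul, mul_smul, hsplit, hsplit, smul_sub, smul_add, h, h1]

end invol

end CfsgLib.PronormalPSp
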