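import Cfsg.Agent.PronormalPSp.Generic
import Cfsg.Agent.Pronormal.PSLTwoCase

/-!
Pronormality of odd-index subgroups of direct products from a dichotomy on the factors.
-/

set_option autoImplicit false
set_option linter.unusedSectionVars false

namespace CfsgLib.PronormalPSp

/-- The normaliser of a Sylow 2-subgroup is abelian over it, and each of its elements either normalises
an overgroup or lies in the join of the overgroup with its conjugate. -/
def Dich (G : Type*) [Group G] : Prop :=
  ∃ S : Sylow 2 G,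
    (∀ a ∈ Subgroup.normalizer ((S : Subgroup G) : Set G), ∀ b ∈ Subgroup.normalizer ((S : Subgroup G) : Set G),
      a * b * a⁻¹ * b⁻¹ ∈ (S : Subgroup G)) ∧
    ∀ K : Subgroup G, (S : Subgroup G) ≤ K → ∀ n ∈ Subgroup.normalizer ((S : Subgroup G) : Set G),
      n ∈ Subgroup.normalizer (K : Set G) ∨ n ∈ K ⊔ K.map (MulAut.conj n).toMonoidHom

theorem dich_of_surjective {G : Type*} [Group G] [Finite G] {Gq : Type*} [Group Gq] (f : G →* Gq)
    (hf : Function.Surjective f) (hker : IsPGroup 2 f.ker) (h : Dich G) : Dich Gq := by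
  have : Fact (Nat.Prime 2) := ⟨Nat.prime_two⟩
  obtain ⟨S, hab, hdich⟩ := h
  have hkS : f.ker ≤ (S : Subgroup G) := by
    have h1 := hker.to_sup_of_normal_left S.2
    exact (le_sup_left (b := (S : Subgroup G))).trans (S.3 h1 le_sup_right).le
  refine ⟨S.mapSurjective hf, fun a ha b hb => ?_, fun K hK n hn => ?_⟩
  · obtain ⟨a, ha', rfl⟩ := CfsgLib.Pronormal.exists_normalizer_lift f hf S hkS ha
    obtain ⟨b, hb', rfl⟩ := CfsgLib.Pronormal.exists_normalizer_lift f hf S hkS hb
    rw [← map_inv, ← map_inv, ← map_mul, ← map_mul, ← map_mul, Sylow.coe_mapSurjective]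
    exact ⟨_, hab a ha' b hb', rfl⟩
  · obtain ⟨n, hn', rfl⟩ := CfsgLib.Pronormal.exists_normalizer_lift f hf S hkS hn
    have hSK : (S : Subgroup G) ≤ K.comap f := fun s hs => hK (by
      rw [Sylow.coe_mapSurjective]; exact ⟨s, hs, rfl⟩)
    rcases hdich (K.comap f) hSK n hn' with h | h
    · refine Or.inl (Subgroup.mem_normalizer_iff.2 fun z => ?_)
      obtain ⟨z, rfl⟩ := hf z
      simpa using Subgroup.mem_normalizer_iff.1 h z
    · refine Or.inr ?_
      have hle : K.comap f ⊔ (K.comap f).map (MulAut.conj n).toMonoidHom ≤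
          (K ⊔ K.map (MulAut.conj (f n)).toMonoidHom).comap f := by
        refine sup_le (fun z hz => Subgroup.mem_sup_left hz) ?_
        rintro _ ⟨z, hz, rfl⟩
        exact Subgroup.mem_sup_right ⟨f z, hz, by simp⟩
      exact hle h

variable {ι : Type*} [Fintype ι] {G : ι → Type*} [∀ i, Group (G i)] [∀ i, Finite (G i)]

theorem exists_sylow_pi (S : ∀ i, Sylow 2 (G i)) :
    ∃ P : Sylow 2 (Π i, G i), (P : Subgroup (Π i, G i)) = Subgroup.pi Set.univ fun i => (S i : Subgroup (G i)) := by
  classical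
  have : Fact (Nat.Prime 2) := ⟨Nat.prime_two⟩
  set Q := Subgroup.pi Set.univ fun i => (S i : Subgroup (G i)) with hQ
  have hcard : Nat.card Q = ∏ i, Nat.card (S i : Subgroup (G i)) := by
    rw [← Nat.card_pi]
    exact Nat.card_congr
      { toFun := fun f i => ⟨f.1 i, f.2 i trivial⟩
        invFun := fun f => ⟨fun i => (f i).1, fun i _ => (f i).2⟩ }
  have hidx : Q.index = ∏ i, (S i : Subgroup (G i)).index := by
    have h := Q.card_mul_index
    rw [hcard, Nat.card_pi] at h
    have h2 : ∏ i, Nat.card (G i) = (∏ i, Nat.card (S i : Subgroup (G i))) * ∏ i, (S i : Subgroup (G i)).index := by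
      rw [← Finset.prod_mul_distrib]
      exact Finset.prod_congr rfl fun i _ => ((S i : Subgroup (G i)).card_mul_index).symm
    rw [h2] at h
    exact Nat.eq_of_mul_eq_mul_left (Finset.prod_pos fun i _ => Nat.card_pos) h
  choose k hk using fun i => IsPGroup.iff_card.1 (S i).2
  have hp : IsPGroup 2 Q := IsPGroup.of_card (n := ∑ i, k i) (by
    rw [hcard, ← Finset.prod_pow_eq_pow_sum]
    exact Finset.prod_congr rfl fun i _ => hk i)
  refine ⟨hp.toSylow ?_, rfl⟩
  rw [hidx, Prime.dvd_finsetProd_iff Nat.prime_two.prime]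
  rintro ⟨i, -, hi⟩
  exact (S i).not_dvd_index hi

/-- Odd-index subgroups of a product are pronormal, given the dichotomy for the factors. -/
theorem isPronormal_pi (h : ∀ i, Dich (G i)) {H : Subgroup (Π i, G i)} (hH : Odd H.index) :
    Cfsg.IsPronormal H := by
  classical
  have : Fact (Nat.Prime 2) := ⟨Nat.prime_two⟩
  choose S hab hdich using h
  obtain ⟨P, hP⟩ := exists_sylow_pi S
  obtain ⟨P', hP'⟩ : ∃ P' : Sylow 2 (Π i, G i), (P' : Subgroup (Π i, G i)) ≤ H := by
    obtain ⟨R⟩ := (inferInstance : Nonempty (Sylow 2 H))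
    refine ⟨(R.2.map H.subtype).toSylow ?_, Subgroup.map_subtype_le _⟩
    rw [Subgroup.index_map_subtype]
    exact Nat.prime_two.not_dvd_mul R.not_dvd_index hH.not_two_dvd_nat
  obtain ⟨g, rfl⟩ := MulAction.exists_smul_eq (Π i, G i) P P'
  set e : (Π i, G i) ≃* (Π i, G i) := MulAut.conj g with he
  suffices key : ∀ H : Subgroup (Π i, G i), (P : Subgroup (Π i, G i)) ≤ H → Cfsg.IsPronormal H by
    have hle : (P : Subgroup (Π i, G i)) ≤ H.map e.symm.toMonoidHom := fun y hy =>
      ⟨e y, hP' (by
        rw [Sylow.coe_subgroup_smul, Subgroup.pointwise_smul_def]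
        exact Subgroup.mem_map_of_mem _ hy), e.symm_apply_apply y⟩
    intro x
    have := CfsgLib.Pronormal.isPronormal_map_iff e _ (key _ hle) x
    have hback : (H.map e.symm.toMonoidHom).map e.toMonoidHom = H := by
      rw [Subgroup.map_map]
      convert Subgroup.map_id H
      ext y
      simp
    rwa [hback] at this
  clear! H g
  intro H hPH
  refine CfsgLib.Pronormal.isPronormal_of_forall_normalizer P hPH fun n hn => ?_
  have hSP : ∀ i, ∀ s ∈ (S i : Subgroup (G i)), Pi.mulSingle i s ∈ (P : Subgroup (Π i, G i)) := fun i s hs => by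
    rw [hP, Subgroup.mulSingle_mem_pi]
    exact fun _ => hs
  have hNcomp : ∀ u ∈ Subgroup.normalizer ((P : Subgroup (Π i, G i)) : Set (Π i, G i)), ∀ i,
      u i ∈ Subgroup.normalizer ((S i : Subgroup (G i)) : Set (G i)) := fun u hu i => by
    refine mem_normalizer_of_fin fun s hs => ?_
    have h1 := conj_mem_of_normalizer hu (hSP i s hs)
    rw [hP] at h1
    simpa using h1 i trivial
  let K : ∀ i, Subgroup (G i) := fun i => H.comap (MonoidHom.mulSingle G i)
  have hSK : ∀ i, (S i : Subgroup (G i)) ≤ K i := fun i s hs => hPH (hSP i s hs)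
  let w : Π i, G i := fun i => if n i ∈ Subgroup.normalizer (K i : Set (G i)) then 1 else n i
  set W := H ⊔ H.map (MulAut.conj n).toMonoidHom with hW
  have hconj : ∀ (u : Π i, G i) (i : ι) (k : G i), u * Pi.mulSingle i k * u⁻¹ = Pi.mulSingle i (u i * k * (u i)⁻¹) := by
    intro u i k
    funext j
    rcases eq_or_ne j i with rfl | hj
    · simp
    · simp [Pi.mulSingle_eq_of_ne hj]
  have hw : w ∈ W := by
    refine Subgroup.pi_mem_of_mulSingle_mem w fun i => ?_
    by_cases hi : n i ∈ Subgroup.normalizer (K i : Set (G i))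
    · simp [w, hi, one_mem]
    · simp only [w, if_neg hi]
      have h1 := (hdich i (K i) (hSK i) (n i) (hNcomp n hn i)).resolve_left hi
      have hle : K i ⊔ (K i).map (MulAut.conj (n i)).toMonoidHom ≤ W.comap (MonoidHom.mulSingle G i) := by
        refine sup_le (fun k hk => Subgroup.mem_sup_left hk) ?_
        rintro _ ⟨k, hk, rfl⟩
        exact Subgroup.mem_sup_right ⟨Pi.mulSingle i k, hk, hconj n i k⟩
      exact hle h1
  set n' := w⁻¹ * n with hn'
  have hn'K : ∀ i, n' i ∈ Subgroup.normalizer (K i : Set (G i)) := fun i => by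
    by_cases hi : n i ∈ Subgroup.normalizer (K i : Set (G i))
    · simp [n', w, hi]
    · simp [n', w, hi, one_mem]
  have hn'S : ∀ i, n' i ∈ Subgroup.normalizer ((S i : Subgroup (G i)) : Set (G i)) := fun i => by
    by_cases hi : n i ∈ Subgroup.normalizer (K i : Set (G i))
    · simpa [n', w, hi] using hNcomp n hn i
    · simp [n', w, hi, one_mem]
  set R := Subgroup.pi Set.univ K with hR
  have hRH : R ≤ H := Subgroup.pi_le_iff.2 fun i => Subgroup.map_comap_le _ _
  have hPR : (P : Subgroup (Π i, G i)) ≤ R := by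
    rw [hP]
    exact fun f hf i hi => hSK i (hf i hi)
  have hn'R : ∀ r ∈ R, n' * r * n'⁻¹ ∈ R := fun r hr i _ =>
    conj_mem_of_normalizer (hn'K i) (hr i trivial)
  have hn'H : n' ∈ Subgroup.normalizer (H : Set (Π i, G i)) := by
    refine mem_normalizer_of_fin fun h hh => ?_
    have hhR : h ∈ Subgroup.normalizer (R : Set (Π i, G i)) := by
      refine mem_normalizer_of_fin fun r hr i hi => ?_
      refine conj_mem_of_normalizer (mem_normalizer_of_fin fun k hk => ?_) (hr i hi)
      show Pi.mulSingle i (h i * k * (h i)⁻¹) ∈ H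
      rw [← hconj]
      exact mul_mem (mul_mem hh hk) (inv_mem hh)
    obtain ⟨r, hr, hrh⟩ := exists_frattini_sylow (P.subtype hPR) hhR
    have hmap : ((P.subtype hPR : Sylow 2 R) : Subgroup R).map R.subtype = (P : Subgroup (Π i, G i)) := by
      rw [Sylow.coe_subtype, Subgroup.map_subgroupOf_eq_of_le hPR]
    rw [hmap] at hrh
    have hu : r * h ∈ Subgroup.normalizer ((P : Subgroup (Π i, G i)) : Set (Π i, G i)) := mem_normalizer_of_fin hrh
    have hcomm : n' * (r * h) * n'⁻¹ * (r * h)⁻¹ ∈ (P : Subgroup (Π i, G i)) := by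
      rw [hP]
      exact fun i _ => hab i (n' i) (hn'S i) ((r * h) i) (hNcomp _ hu i)
    have e : n' * h * n'⁻¹ = (n' * r⁻¹ * n'⁻¹) * ((n' * (r * h) * n'⁻¹ * (r * h)⁻¹) * (r * h)) := by group
    rw [e]
    exact mul_mem (hRH (hn'R _ (inv_mem hr))) (mul_mem (hPH hcomm) (mul_mem (hRH hr) hh))
  refine ⟨w, hw, ?_⟩
  have e2 : n = w * n' := by rw [hn', mul_inv_cancel_left]
  conv_lhs => rw [e2, CfsgLib.Pronormal.map_conj_mul, CfsgLib.Pronormal.map_conj_of_mem_normalizer hn'H]

end CfsgLib.PronormalPSp
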