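import Cfsg.Agent.PronormalPSp.Main
import Cfsg.Agent.PronormalPSp.Product
import Cfsg.Agent.Pronormal.OddCore
import Cfsg.Agent.Classical.SmallPSL

/-!
The dichotomy for `Sp(2n, q)`, `n` a power of two, `q` odd.
-/

set_option autoImplicit false
set_option linter.unusedSectionVars false

namespace CfsgLib.PronormalPSp

open Matrix CfsgLib.SL2C CfsgLib.Symp CfsgLib.SympSylowTwo CfsgLib.SpFour CfsgLib.Linear.FourGroups

variable {F : Type*} [Field F] [Fintype F]

/-- Outside the small case the Sylow subgroup of `SL₂` is self-normalising. -/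
theorem normalizer_le_of_not_small (hodd : Odd (Fintype.card F)) (D : QData F) (h : ¬ Sm D) {x : SL F}
    (hx : x ∈ Subgroup.normalizer ((D.P : Subgroup (SL F)) : Set (SL F))) : x ∈ (D.P : Subgroup (SL F)) := by
  have : Fact (Nat.Prime 2) := ⟨Nat.prime_two⟩
  have hs := D.small.resolve_right h
  obtain ⟨k, m, hm, hkm⟩ := Nat.exists_eq_two_pow_mul_odd (n := orderOf x) (orderOf_pos x).ne'
  refine mem_sylow_of_pow D.P hx (k := k) ?_
  have ham : (x ^ 2 ^ k) ^ m = 1 := by rw [← pow_mul, ← hkm, pow_orderOf_eq_one]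
  have hc := hs (x ^ 2 ^ k) (hm.of_dvd_nat (orderOf_dvd_of_pow_eq_one ham)) fun p hp =>
    conj_mem_of_normalizer (pow_mem hx _) hp
  have hm' : ∀ p, x ^ 2 ^ k * p * (x ^ 2 ^ k)⁻¹ = p → mt (x ^ 2 ^ k) * mt p = mt p * mt (x ^ 2 ^ k) := fun p hp => by
    rw [← mt_mul, ← mt_mul, mul_inv_eq_iff_eq_mul.1 hp]
  rcases scalar_of_commute D hodd _ (hm' _ (hc _ D.hi)) (hm' _ (hc _ D.hj)) with e | e
  · exact e
  · exfalso
    rw [e] at ham
    obtain ⟨r, hr⟩ := hm
    rw [hr, pow_succ, pow_mul, pow_two, negOne_sq, one_pow, one_mul] at ham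
    exact negOne_ne_one hodd ham

theorem mem_normalizer_P_cases (hodd : Odd (Fintype.card F)) (D : QData F) {x : SL F}
    (hx : x ∈ Subgroup.normalizer ((D.P : Subgroup (SL F)) : Set (SL F))) :
    x ∈ (D.P : Subgroup (SL F)) ∨ Sm D := by
  by_cases h : Sm D
  · exact Or.inr h
  · exact Or.inl (normalizer_le_of_not_small hodd D h hx)

theorem comm_mem_any (hodd : Odd (Fintype.card F)) (D : QData F) {a b : SL F}
    (ha : a ∈ Subgroup.normalizer ((D.P : Subgroup (SL F)) : Set (SL F)))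
    (hb : b ∈ Subgroup.normalizer ((D.P : Subgroup (SL F)) : Set (SL F))) :
    a * b * a⁻¹ * b⁻¹ ∈ (D.P : Subgroup (SL F)) := by
  by_cases h : Sm D
  · exact comm_mem hodd h ha hb
  · have ha' := normalizer_le_of_not_small hodd D h ha
    have hb' := normalizer_le_of_not_small hodd D h hb
    exact mul_mem (mul_mem (mul_mem ha' hb') (inv_mem ha')) (inv_mem hb')

theorem center_le_P (D : QData F) {z : SL F} (hz : z ∈ Subgroup.center (SL F)) :
    z ∈ (D.P : Subgroup (SL F)) := by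
  rcases center_cases hz with rfl | rfl
  · exact one_mem _
  · exact negOne_mem D

/-- The dichotomy in `SL₂`. -/
theorem sl_two_join (hodd : Odd (Fintype.card F)) (D : QData F) {K : Subgroup (SL F)}
    (hK : (D.P : Subgroup (SL F)) ≤ K) {ν : SL F}
    (hν : ν ∈ Subgroup.normalizer ((D.P : Subgroup (SL F)) : Set (SL F))) :
    ν ∈ Subgroup.normalizer (K : Set (SL F)) ∨ ν ∈ K ⊔ K.map (MulAut.conj ν).toMonoidHom := by
  have : Fact (Nat.Prime 2) := ⟨Nat.prime_two⟩
  rcases mem_normalizer_P_cases hodd D hν with h | hS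
  · exact Or.inl (Subgroup.le_normalizer (hK h))
  have hdvd : K.index ∣ (D.P : Subgroup (SL F)).index := Subgroup.index_dvd_of_le hK
  by_cases hq : Fintype.card F = 3
  · left
    have hcard : Nat.card (SL F) = 24 := by rw [natCard_SL_factor, hq]
    have h24 : (D.P : Subgroup (SL F)).index ∣ 2 ^ 3 * 3 := by
      have := Subgroup.index_dvd_card (D.P : Subgroup (SL F))
      rw [hcard] at this
      exact this
    have hcop : ((D.P : Subgroup (SL F)).index).Coprime (2 ^ 3) :=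
      ((Nat.prime_two.coprime_iff_not_dvd.2 D.P.not_dvd_index).symm).pow_right 3
    have h3 : (D.P : Subgroup (SL F)).index ∣ 3 := hcop.dvd_of_dvd_mul_left h24
    rcases (Nat.dvd_prime Nat.prime_three).1 (hdvd.trans h3) with h1 | h1
    · rw [Subgroup.index_eq_one.1 h1, Subgroup.mem_normalizer_iff]
      simp
    · have hP3 : (D.P : Subgroup (SL F)).index = 3 :=
        ((Nat.dvd_prime Nat.prime_three).1 h3).resolve_left fun e => by rw [e, Nat.dvd_one, h1] at hdvd; omega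
      have c1 := (D.P : Subgroup (SL F)).card_mul_index
      have c2 := K.card_mul_index
      rw [hP3] at c1
      rw [h1] at c2
      have e := Subgroup.eq_of_le_of_card_ge hK (by omega)
      rwa [← e]
  have h5 : 4 ≤ Fintype.card F := by
    have : 1 < Fintype.card F := Fintype.one_lt_card
    have := Nat.odd_iff.1 hodd
    omega
  have hs : IsSimpleGroup (Matrix.ProjectiveSpecialLinearGroup (Fin 2) F) :=
    CfsgLib.Linear.isSimpleGroup_PSL (Or.inr (CfsgLib.Linear.Small.exists_sq_ne_one h5))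
  set f := QuotientGroup.mk' (Subgroup.center (SL F)) with hf
  have hfs : Function.Surjective f := QuotientGroup.mk'_surjective _
  have hpro := CfsgLib.Pronormal.isPronormal_psl_two hodd hs (H := K.map f) fun h2 =>
    D.P.not_dvd_index ((h2.trans (Subgroup.index_map_dvd K hfs)).trans hdvd)
  obtain ⟨y, hy, hye⟩ := hpro (f ν)
  have hmap : ∀ u : SL F, (K.map f).map (MulAut.conj (f u)).toMonoidHom =
      (K.map (MulAut.conj u).toMonoidHom).map f := fun u => by
    rw [Subgroup.map_map, Subgroup.map_map]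
    congr 1
  rw [hmap, ← Subgroup.map_sup] at hy
  obtain ⟨w, hw, rfl⟩ := hy
  rw [hmap, hmap] at hye
  have hker : ∀ u : SL F, f.ker ≤ K.map (MulAut.conj u).toMonoidHom := fun u z hz => by
    rw [hf, QuotientGroup.ker_mk'] at hz
    refine ⟨z, hK (center_le_P D hz), ?_⟩
    show u * z * u⁻¹ = z
    rw [Subgroup.mem_center_iff.1 hz u, mul_inv_cancel_right]
  have he : K.map (MulAut.conj ν).toMonoidHom = K.map (MulAut.conj w).toMonoidHom := by
    have h := congrArg (Subgroup.comap f) hye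
    rwa [Subgroup.comap_map_eq, Subgroup.comap_map_eq, sup_of_le_left (hker ν), sup_of_le_left (hker w)] at h
  have hu : ν⁻¹ * w ∈ Subgroup.normalizer (K : Set (SL F)) := by
    refine CfsgLib.Pronormal.mem_normalizer_of_map_conj ?_
    rw [CfsgLib.Pronormal.map_conj_mul, ← he, ← CfsgLib.Pronormal.map_conj_mul, inv_mul_cancel]
    ext z
    simp
  obtain ⟨k, hk, hku⟩ := exists_frattini_sylow (D.P.subtype hK) hu
  rw [Sylow.coe_subtype, Subgroup.map_subgroupOf_eq_of_le hK] at hku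
  have hkuN := mem_normalizer_of_fin hku
  by_cases hkuP : k * (ν⁻¹ * w) ∈ (D.P : Subgroup (SL F))
  · right
    have huK : ν⁻¹ * w ∈ K := (K.mul_mem_cancel_left hk).1 (hK hkuP)
    have h := mul_mem hw (Subgroup.mem_sup_left (T := K.map (MulAut.conj ν).toMonoidHom) (inv_mem huK))
    rwa [show w * (ν⁻¹ * w)⁻¹ = ν by group] at h
  · left
    have ht : tEl D hodd ∈ Subgroup.normalizer (K : Set (SL F)) :=
      tEl_mem_of_mem hodd hS (hK.trans Subgroup.le_normalizer) hkuN hkuP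
        (mul_mem (Subgroup.le_normalizer hk) hu)
    obtain ⟨e, p, -, hp, rfl⟩ := exists_tEl_pow hodd hS hν
    exact mul_mem (pow_mem ht e) (Subgroup.le_normalizer (hK hp))

section model

variable {n : ℕ}

theorem mono_inj {α : Type*} [Fintype α] [DecidableEq α] {f f' : α → SL F} {σ σ' : Equiv.Perm α}
    (h : baseHom f * permHom σ = baseHom f' * permHom σ') : σ = σ' ∧ f = f' := by
  have h1 : permHom (F := F) (σ * σ'⁻¹) = baseHom (f⁻¹ * f') := by
    rw [map_mul, map_inv, map_mul, map_inv, eq_inv_mul_iff_mul_eq, ← mul_assoc, h, mul_inv_cancel_right]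
  have hσ : σ = σ' := mul_inv_eq_one.1 (perm_eq_one h1)
  subst hσ
  exact ⟨rfl, baseHom_injective (mul_right_cancel h)⟩

theorem mem_model_iff {Q : Sylow 2 (SL F)} {f : Fin n → SL F} {σ : Equiv.Perm (Fin n)} :
    baseHom f * permHom σ ∈ model Q n ↔
      (∀ i, f i ∈ (Q : Subgroup (SL F))) ∧ σ ∈ CfsgLib.SylowAlt.tree n := by
  refine ⟨fun h => ?_, fun h => mem_model.2 ⟨f, h.1, σ, h.2, rfl⟩⟩
  obtain ⟨f', hf', σ', hσ', e⟩ := mem_model.1 h
  obtain ⟨rfl, rfl⟩ := mono_inj e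
  exact ⟨hf', hσ'⟩

/-- A constant diagonal element. -/
def cdiag (n : ℕ) : SL F →* Spg (Fin n) F := baseHom.comp (Pi.constMonoidHom (Fin n) (SL F))

theorem cdiag_apply (ν : SL F) : cdiag n ν = baseHom fun _ => ν := rfl

theorem cdiag_perm (ν : SL F) (σ : Equiv.Perm (Fin n)) :
    cdiag n ν * permHom σ = permHom σ * cdiag n ν := by
  rw [cdiag_apply]
  exact (mul_inv_eq_iff_eq_mul.1 (conj_base σ fun _ => ν)).symm

theorem cdiag_conj_mono (ν : SL F) (f : Fin n → SL F) (σ : Equiv.Perm (Fin n)) :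
    cdiag n ν * (baseHom f * permHom σ) * (cdiag n ν)⁻¹ = baseHom (fun a => ν * f a * ν⁻¹) * permHom σ := by
  have h : (baseHom fun a => ν * f a * ν⁻¹) = cdiag n ν * baseHom f * (cdiag n ν)⁻¹ := by
    rw [cdiag_apply, ← map_inv, ← map_mul, ← map_mul]
    rfl
  rw [h, ← map_inv, mul_assoc (cdiag n ν * baseHom f), cdiag_perm]
  simp only [mul_assoc]

theorem BS_le_model (D : QData F) : BS D (Finset.univ : Finset (Fin n)) ≤ model D.P n :=
  (BS_le_iff D).2 fun a _ h hh => base_mem_model fun i => by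
    rcases eq_or_ne i a with rfl | hi
    · simpa using hh
    · simp [Pi.mulSingle_eq_of_ne hi, one_mem]

theorem model_le_Mon (Q : Sylow 2 (SL F)) : model Q n ≤ Mon (Fin n) F := fun x hx => by
  obtain ⟨f, -, σ, -, rfl⟩ := mem_model.1 hx
  exact ⟨f, σ, rfl⟩

theorem tree_transitive {k : ℕ} (a b : Fin (2 ^ k)) : ∃ τ ∈ CfsgLib.SylowAlt.tree (2 ^ k), τ a = b := by
  have : Fact (Nat.Prime 2) := ⟨Nat.prime_two⟩
  rcases Nat.eq_zero_or_pos k with rfl | hk
  · exact ⟨1, one_mem _, Fin.ext (by have := a.2; have := b.2; simp_all)⟩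
  obtain ⟨P, hP⟩ := CfsgLib.Pronormal.exists_transitive_sylow hk
  obtain ⟨T, hT⟩ := CfsgLib.SylowAlt.exists_sylow_eq_tree (2 ^ k)
  obtain ⟨g, hg⟩ := MulAction.exists_smul_eq (Equiv.Perm (Fin (2 ^ k))) P T
  obtain ⟨π, hπ, hπe⟩ := hP (g⁻¹ a) (g⁻¹ b)
  refine ⟨g * π * g⁻¹, ?_, ?_⟩
  · rw [← hT, ← hg, Sylow.coe_subgroup_smul, Subgroup.pointwise_smul_def]
    exact ⟨π, hπ, rfl⟩
  · rw [Equiv.Perm.mul_apply, Equiv.Perm.mul_apply, hπe, Equiv.Perm.inv_def, Equiv.apply_symm_apply]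

variable (hodd : Odd (Fintype.card F)) (D : QData F) {k : ℕ}
include hodd

theorem normalizer_model {x : Spg (Fin (2 ^ k)) F}
    (hx : x ∈ Subgroup.normalizer ((model D.P (2 ^ k) : Subgroup _) : Set (Spg (Fin (2 ^ k)) F))) :
    ∃ ν ∈ Subgroup.normalizer ((D.P : Subgroup (SL F)) : Set (SL F)),
      ∃ s ∈ model D.P (2 ^ k), x = s * cdiag (2 ^ k) ν := by
  have hxMon : x ∈ Mon (Fin (2 ^ k)) F := mem_Mon_of_conj hodd fun a => conj_tInv_of_i (D := D) hodd
    (model_le_Mon D.P (conj_mem_of_normalizer hx (BS_le_model D (rho_mem_BS D (Finset.mem_univ a) D.hi))))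
  obtain ⟨f, σ, rfl⟩ := hxMon
  have hblock : ∀ b, f (σ b) ∈ Subgroup.normalizer ((D.P : Subgroup (SL F)) : Set (SL F)) := fun b => by
    refine mem_normalizer_of_fin fun h hh => ?_
    have h1 := conj_mem_of_normalizer hx (BS_le_model D (rho_mem_BS D (Finset.mem_univ b) hh))
    rw [rho_conj, rho_apply, ← mul_one (baseHom _), ← map_one (permHom (a := Fin (2 ^ k)) (F := F)),
      mem_model_iff] at h1
    simpa using h1.1 (σ b)
  have htau : ∀ τ ∈ CfsgLib.SylowAlt.tree (2 ^ k), (σ * τ * σ⁻¹) ∈ CfsgLib.SylowAlt.tree (2 ^ k) ∧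
      ∀ a, f a * (f ((σ * τ * σ⁻¹).symm a))⁻¹ ∈ (D.P : Subgroup (SL F)) := by
    intro τ hτ
    have h1 := conj_mem_of_normalizer hx (perm_mem_model D.P hτ)
    have e : baseHom f * permHom σ * permHom τ * (baseHom f * permHom σ)⁻¹ =
        baseHom (fun a => f a * (f ((σ * τ * σ⁻¹).symm a))⁻¹) * permHom (σ * τ * σ⁻¹) := by
      rw [show (fun a => f a * (f ((σ * τ * σ⁻¹).symm a))⁻¹) =
        f * fun a => (f⁻¹) ((σ * τ * σ⁻¹).symm a) from rfl, map_mul, ← conj_base, map_inv, map_mul, map_mul, map_inv]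
      group
    rw [e, mem_model_iff] at h1
    exact ⟨h1.2, h1.1⟩
  have hσ : σ ∈ CfsgLib.SylowAlt.tree (2 ^ k) :=
    CfsgLib.SylowAlt.tree_normalizer (mem_normalizer_of_fin fun τ hτ => (htau τ hτ).1)
  have hall : ∀ τ ∈ CfsgLib.SylowAlt.tree (2 ^ k), ∀ a,
      f a * (f (τ.symm a))⁻¹ ∈ (D.P : Subgroup (SL F)) := fun τ hτ a => by
    have h := (htau _ (mul_mem (mul_mem (inv_mem hσ) hτ) hσ)).2 a
    rwa [show σ * (σ⁻¹ * τ * σ) * σ⁻¹ = τ by group] at h
  let b : Fin (2 ^ k) := ⟨0, Nat.two_pow_pos k⟩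
  refine ⟨f (σ b), hblock b, baseHom (fun a => f a * (f (σ b))⁻¹) * permHom σ, ?_, ?_⟩
  · refine mem_model_iff.2 ⟨fun a => ?_, hσ⟩
    obtain ⟨τ, hτ, hτe⟩ := tree_transitive (σ b) a
    have h := hall τ hτ a
    rwa [← hτe, Equiv.symm_apply_apply, hτe] at h
  · rw [mul_assoc, ← cdiag_perm, ← mul_assoc, cdiag_apply, ← map_mul]
    congr 2
    funext a
    simp

theorem cdiag_conj_model {ν : SL F} (hν : ν ∈ Subgroup.normalizer ((D.P : Subgroup (SL F)) : Set (SL F)))
    {s : Spg (Fin n) F} (hs : s ∈ model D.P n) : cdiag n ν * s * (cdiag n ν)⁻¹ ∈ model D.P n := by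
  obtain ⟨f, hf, σ, hσ, rfl⟩ := mem_model.1 hs
  exact mem_model.2 ⟨fun a => ν * f a * ν⁻¹, fun a => conj_mem_of_normalizer hν (hf a), σ, hσ,
    (cdiag_conj_mono ν f σ).symm⟩

theorem cdiag_normalizes {ν : SL F} (hν : ν ∈ Subgroup.normalizer ((D.P : Subgroup (SL F)) : Set (SL F)))
    {K : Subgroup (Spg (Fin n) F)} (hBK : BS D Finset.univ ≤ K) (hK : K ≤ Mon (Fin n) F)
    (hK1 : ∀ a, ν ∈ Subgroup.normalizer ((K.comap (rho a) : Subgroup (SL F)) : Set (SL F))) :
    cdiag n ν ∈ Subgroup.normalizer (K : Set (Spg (Fin n) F)) := by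
  have : Fact (Nat.Prime 2) := ⟨Nat.prime_two⟩
  set B := BS D (Finset.univ : Finset (Fin n)) with hB
  set R : Subgroup (Spg (Fin n) F) := (Subgroup.pi Set.univ fun a => K.comap (rho a)).map baseHom with hR
  have hBR : B ≤ R := (BS_le_iff D).2 fun a _ h hh => ⟨Pi.mulSingle a h, fun c _ => by
    rcases eq_or_ne c a with rfl | hc
    · simpa using hBK (rho_mem_BS D (Finset.mem_univ _) hh)
    · simp [Pi.mulSingle_eq_of_ne hc], rfl⟩
  have hRK : R ≤ K := by
    rintro _ ⟨f, hf, rfl⟩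
    show f ∈ K.comap baseHom
    exact Subgroup.pi_mem_of_mulSingle_mem f fun a => hf a trivial
  refine mem_normalizer_of_fin fun x hx => ?_
  obtain ⟨f, σ, rfl⟩ := hK hx
  have hxR : baseHom f * permHom σ ∈ Subgroup.normalizer (R : Set (Spg (Fin n) F)) := by
    refine mem_normalizer_of_fin ?_
    rintro _ ⟨r, hr, rfl⟩
    show baseHom r ∈ R.comap (MulAut.conj (baseHom f * permHom σ)).toMonoidHom
    show r ∈ (R.comap (MulAut.conj (baseHom f * permHom σ)).toMonoidHom).comap baseHom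
    refine Subgroup.pi_mem_of_mulSingle_mem r fun b => ?_
    show baseHom f * permHom σ * rho b (r b) * (baseHom f * permHom σ)⁻¹ ∈ R
    have h1 : rho (σ b) (f (σ b) * r b * (f (σ b))⁻¹) ∈ K := by
      rw [← rho_conj]
      exact mul_mem (mul_mem hx (hr b trivial)) (inv_mem hx)
    rw [rho_conj]
    refine ⟨Pi.mulSingle (σ b) _, fun c _ => ?_, rfl⟩
    rcases eq_or_ne c (σ b) with rfl | hc
    · simpa using h1
    · simp [Pi.mulSingle_eq_of_ne hc]
  obtain ⟨P, hP⟩ := ((isPGroup_BS D (Finset.univ : Finset (Fin n))).comap_of_injective R.subtype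
    R.subtype_injective).exists_le_sylow
  have hPB : (P : Subgroup R).map R.subtype = B := by
    have hle : B ≤ (P : Subgroup R).map R.subtype := fun y hy => ⟨⟨y, hBR hy⟩, hP hy, rfl⟩
    refine le_antisymm (fun y hy => ?_) hle
    obtain ⟨y', hy', rfl⟩ := hy
    obtain ⟨g, hg, hge⟩ := y'.2
    show (y' : Spg (Fin n) F) ∈ B
    refine ⟨g, fun a _ => ?_, hge⟩
    simp only [Finset.mem_univ, if_true]
    exact base_mem_of_two_group (P.2.map R.subtype) hle (fun _ _ a ha => absurd (Finset.mem_univ a) ha)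
      (hge ▸ ⟨y', hy', rfl⟩) a
  obtain ⟨r, hr, hrk⟩ := exists_frattini_sylow P hxR
  rw [hPB] at hrk
  obtain ⟨g, hg, rfl⟩ := hr
  have hblk : ∀ b, g (σ b) * f (σ b) ∈ Subgroup.normalizer ((D.P : Subgroup (SL F)) : Set (SL F)) := fun b => by
    refine mem_normalizer_of_fin fun h hh => ?_
    have h1 := hrk _ (rho_mem_BS D (Finset.mem_univ b) hh)
    rw [show baseHom g * (baseHom f * permHom σ) = baseHom (g * f) * permHom σ by rw [map_mul, mul_assoc],
      rho_conj, rho_apply] at h1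
    obtain ⟨u, hu, hue⟩ := h1
    have h2 := hu (σ b) trivial
    rw [baseHom_injective hue] at h2
    simpa using h2
  have e : cdiag n ν * (baseHom f * permHom σ) * (cdiag n ν)⁻¹ =
      baseHom (fun a => ν * (g a)⁻¹ * ν⁻¹) *
        (baseHom (fun a => ν * (g a * f a) * ν⁻¹ * (g a * f a)⁻¹) *
          (baseHom g * (baseHom f * permHom σ))) := by
    rw [cdiag_conj_mono, ← mul_assoc (baseHom g), ← map_mul, ← mul_assoc, ← map_mul, ← mul_assoc, ← map_mul]
    congr 2
    funext a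
    simp only [Pi.mul_apply]
    group
  rw [e]
  refine mul_mem (hRK ⟨_, fun a _ => conj_mem_of_normalizer (hK1 a) (inv_mem (hg a trivial)), rfl⟩)
    (mul_mem (hBK ⟨_, fun a _ => ?_, rfl⟩) (mul_mem (hRK ⟨g, hg, rfl⟩) hx))
  simp only [Finset.mem_univ, if_true]
  have h := hblk (σ.symm a)
  rw [Equiv.apply_symm_apply] at h
  exact comm_mem_any hodd D hν h

theorem tEl_diag_mem (hS : Sm D) (ht : tEl D hodd ∉ (D.P : Subgroup (SL F)))
    {K : Subgroup (Spg (Fin (2 ^ k)) F)} (hK : model D.P (2 ^ k) ≤ K) (hP : Pair hodd D K) :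
    cdiag (2 ^ k) (tEl D hodd) ∈ K := by
  classical
  have : Fact (Nat.Prime 2) := ⟨Nat.prime_two⟩
  set t := tEl D hodd with htdef
  obtain ⟨b, c, hbc, hmem⟩ := hP
  set T := CfsgLib.SylowAlt.tree (2 ^ k)
  let E : AddSubmonoid (Fin (2 ^ k) → ℕ) :=
    { carrier := {e | baseHom (fun a => t ^ e a) ∈ K}
      zero_mem' := by
        show baseHom (fun a => t ^ (0 : Fin (2 ^ k) → ℕ) a) ∈ K
        simp only [Pi.zero_apply, pow_zero]
        rw [show (fun _ : Fin (2 ^ k) => (1 : SL F)) = 1 from rfl, map_one]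
        exact one_mem _
      add_mem' := fun {e e'} he he' => by
        show baseHom (fun a => t ^ (e + e') a) ∈ K
        simp only [Pi.add_apply, pow_add]
        exact (map_mul baseHom (fun a => t ^ e a) fun a => t ^ e' a) ▸ mul_mem he he' }
  have hτ : ∀ τ : T, (fun a => (if (τ : Equiv.Perm (Fin (2 ^ k))) b = a then 1 else 0) +
      (if (τ : Equiv.Perm (Fin (2 ^ k))) c = a then 1 else 0)) ∈ E := fun τ => by
    have hperm : permHom (F := F) (τ : Equiv.Perm (Fin (2 ^ k))) ∈ K := hK (perm_mem_model D.P τ.2)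
    have h := mul_mem (mul_mem hperm hmem) (inv_mem hperm)
    rw [rho_apply, rho_apply, ← map_mul, conj_base] at h
    show baseHom _ ∈ K
    refine (congrArg (fun u => baseHom u ∈ K) (funext fun a => ?_)).mp h
    simp only [Pi.mul_apply, pow_add, Pi.mulSingle_apply, Equiv.symm_apply_eq]
    congr 1 <;> split_ifs with h1 h2 <;> simp_all [eq_comm]
  have hsum := E.sum_mem (t := (Finset.univ : Finset T)) fun τ _ => hτ τ
  -- every fibre has the same size, a power of two
  set st : Fin (2 ^ k) → Fin (2 ^ k) → ℕ := fun x a =>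
    ((Finset.univ : Finset T).filter fun τ : T => (τ : Equiv.Perm (Fin (2 ^ k))) x = a).card with hst
  have hstep : ∀ x a a', st x a ≤ st x a' := by
    intro x a a'
    obtain ⟨ρ, hρ, hρe⟩ := tree_transitive a a'
    refine Finset.card_le_card_of_injOn (fun τ => (⟨ρ, hρ⟩ : T) * τ) ?_ ?_
    · intro τ hτ'
      simp only [Finset.coe_filter, Finset.mem_univ, true_and, Set.mem_setOf_eq] at hτ' ⊢
      show ρ ((τ : Equiv.Perm (Fin (2 ^ k))) x) = a'
      rw [hτ', hρe]
    · exact fun τ _ τ' _ h => mul_left_cancel h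
  have hconst : ∀ x a, st x a = st x ⟨0, Nat.two_pow_pos k⟩ := fun x a =>
    le_antisymm (hstep x a _) (hstep x _ a)
  have htot : ∀ x, Nat.card T = 2 ^ k * st x ⟨0, Nat.two_pow_pos k⟩ := fun x => by
    have h := Finset.card_eq_sum_card_fiberwise (s := (Finset.univ : Finset T))
      (t := (Finset.univ : Finset (Fin (2 ^ k)))) (f := fun τ : T => (τ : Equiv.Perm (Fin (2 ^ k))) x)
      fun _ _ => Finset.mem_univ _
    rw [Finset.card_univ] at h
    rw [Nat.card_eq_fintype_card, h]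
    show (∑ a, st x a) = _
    rw [Finset.sum_congr rfl fun a _ => hconst x a, Finset.sum_const, Finset.card_univ, Fintype.card_fin,
      smul_eq_mul]
  obtain ⟨l, hl⟩ := IsPGroup.iff_card.1 (CfsgLib.SylowAlt.isPGroup_tree (2 ^ k))
  obtain ⟨j, -, hj⟩ := (Nat.dvd_prime_pow Nat.prime_two).1
    (hl ▸ Dvd.intro_left _ (htot b).symm : st b ⟨0, Nat.two_pow_pos k⟩ ∣ 2 ^ l)
  have hc : st c ⟨0, Nat.two_pow_pos k⟩ = st b ⟨0, Nat.two_pow_pos k⟩ :=
    Nat.eq_of_mul_eq_mul_left (Nat.two_pow_pos k) ((htot c).symm.trans (htot b))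
  have he : (∑ τ : T, fun a => (if (τ : Equiv.Perm (Fin (2 ^ k))) b = a then 1 else 0) +
      (if (τ : Equiv.Perm (Fin (2 ^ k))) c = a then 1 else 0)) = fun _ => 2 ^ (j + 1) := by
    funext a
    rw [Finset.sum_apply, Finset.sum_add_distrib, ← Finset.card_filter, ← Finset.card_filter]
    show st b a + st c a = _
    rw [hconst b a, hconst c a, hc, hj, pow_succ]
    ring
  rw [he] at hsum
  have hm : t ^ 2 ^ (j + 1) ∈ K.comap (cdiag (2 ^ k)) := hsum
  have hPK : (D.P : Subgroup (SL F)) ≤ K.comap (cdiag (2 ^ k)) := fun p hp =>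
    hK (base_mem_model fun _ => hp)
  have hnP : t ^ 2 ^ (j + 1) ∉ (D.P : Subgroup (SL F)) := fun h => ht (by
    have h3 := tEl_cube hodd hS
    have hg : Nat.gcd (2 ^ (j + 1)) 3 = 1 := Nat.Coprime.pow_left _ (by norm_num)
    obtain ⟨u, v, huv⟩ : ∃ u v : ℤ, ((2 ^ (j + 1) : ℕ) : ℤ) * u + 3 * v = 1 :=
      ⟨_, _, by have := Nat.gcd_eq_gcd_ab (2 ^ (j + 1)) 3; rw [hg] at this; exact_mod_cast this.symm⟩
    have := mul_mem (zpow_mem h u) (zpow_mem h3 v)
    rw [← zpow_natCast, ← _root_.zpow_mul, ← zpow_natCast t 3, ← _root_.zpow_mul, ← _root_.zpow_add] at this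
    have e : ((2 ^ (j + 1) : ℕ) : ℤ) * u + ((3 : ℕ) : ℤ) * v = 1 := by exact_mod_cast huv
    rwa [e, _root_.zpow_one] at this)
  exact tEl_mem_of_mem hodd hS hPK (pow_mem (tEl_mem_normalizer hodd hS) _) hnP hm

/-- The dichotomy for the symplectic group. -/
theorem dich_sp (D : QData F) : Dich (Spg (Fin (2 ^ k)) F) := by
  have : Fact (Nat.Prime 2) := ⟨Nat.prime_two⟩
  refine ⟨Sylow.ofCard (model D.P (2 ^ k)) (card_model hodd D.P), ?_, ?_⟩ <;> rw [Sylow.coe_ofCard]
  · intro x hx y hy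
    obtain ⟨ν, hν, s, hs, rfl⟩ := normalizer_model hodd D hx
    obtain ⟨μ, hμ, r, hr, rfl⟩ := normalizer_model hodd D hy
    have hc : cdiag (2 ^ k) (ν * μ * ν⁻¹ * μ⁻¹) ∈ model D.P (2 ^ k) := base_mem_model fun _ => comm_mem_any hodd D hν hμ
    have h1 := cdiag_conj_model hodd D hν hr
    have h2 := cdiag_conj_model hodd D hμ hs
    rw [show s * cdiag (2 ^ k) ν * (r * cdiag (2 ^ k) μ) * (s * cdiag (2 ^ k) ν)⁻¹ * (r * cdiag (2 ^ k) μ)⁻¹ =
      s * (cdiag (2 ^ k) ν * r * (cdiag (2 ^ k) ν)⁻¹) * cdiag (2 ^ k) (ν * μ * ν⁻¹ * μ⁻¹) *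
        (r * (cdiag (2 ^ k) μ * s * (cdiag (2 ^ k) μ)⁻¹))⁻¹ by simp only [map_mul, map_inv]; group]
    exact mul_mem (mul_mem (mul_mem hs h1) hc) (inv_mem (mul_mem hr h2))
  · intro K hK x hx
    obtain ⟨ν, hν, s, hs, rfl⟩ := normalizer_model hodd D hx
    by_cases hνP : ν ∈ (D.P : Subgroup (SL F))
    · exact Or.inl (Subgroup.le_normalizer (mul_mem (hK hs) (hK (base_mem_model fun _ => hνP))))
    have hS : Sm D := (mem_normalizer_P_cases hodd D hν).resolve_left hνP
    have ht : tEl D hodd ∉ (D.P : Subgroup (SL F)) := fun h => hνP (by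
      obtain ⟨e, p, -, hp, rfl⟩ := exists_tEl_pow hodd hS hν
      exact mul_mem (pow_mem h e) hp)
    have hBK : BS D Finset.univ ≤ K := (BS_le_model D).trans hK
    by_cases hP : Pair hodd D K
    · have htK := tEl_diag_mem hodd D hS ht hK hP
      obtain ⟨e, p, -, hp, rfl⟩ := exists_tEl_pow hodd hS hν
      refine Or.inl (Subgroup.le_normalizer (mul_mem (hK hs) ?_))
      rw [map_mul, map_pow]
      exact mul_mem (pow_mem htK e) (hK (base_mem_model fun _ => hp))
    have hKMon : K ≤ Mon (Fin (2 ^ k)) F :=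
      loc hS Finset.univ K (fun g _ a ha => absurd (Finset.mem_univ a) ha) hBK hP
    by_cases hall : ∀ a, ν ∈ Subgroup.normalizer ((K.comap (rho a) : Subgroup (SL F)) : Set (SL F))
    · exact Or.inl (mul_mem (Subgroup.le_normalizer (hK hs)) (cdiag_normalizes hodd D hν hBK hKMon hall))
    right
    obtain ⟨a, ha⟩ := not_forall.1 hall
    set W := K ⊔ K.map (MulAut.conj (s * cdiag (2 ^ k) ν)).toMonoidHom with hW
    have hKW : K ≤ W := le_sup_left
    have hconj : ∀ y ∈ K, cdiag (2 ^ k) ν * y * (cdiag (2 ^ k) ν)⁻¹ ∈ W := fun y hy => by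
      have h1 : (s * cdiag (2 ^ k) ν) * y * (s * cdiag (2 ^ k) ν)⁻¹ ∈ W := Subgroup.mem_sup_right ⟨y, hy, rfl⟩
      rw [show cdiag (2 ^ k) ν * y * (cdiag (2 ^ k) ν)⁻¹ =
        s⁻¹ * ((s * cdiag (2 ^ k) ν) * y * (s * cdiag (2 ^ k) ν)⁻¹) * s by group]
      exact mul_mem (mul_mem (inv_mem (hKW (hK hs))) h1) (hKW (hK hs))
    have hJ := (sl_two_join hodd D (K := K.comap (rho a))
      (fun h hh => hBK (rho_mem_BS D (Finset.mem_univ a) hh)) hν).resolve_left ha
    have hle : K.comap (rho a) ⊔ (K.comap (rho a)).map (MulAut.conj ν).toMonoidHom ≤ W.comap (rho a) := by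
      refine sup_le (Subgroup.comap_mono hKW) ?_
      rintro _ ⟨h, hh, rfl⟩
      show rho a (ν * h * ν⁻¹) ∈ W
      have h1 := hconj _ hh
      rw [cdiag_apply, ← mul_one (baseHom fun _ => ν), ← map_one (permHom (a := Fin (2 ^ k)) (F := F)), rho_conj] at h1
      exact h1
    have hall' : ∀ c, rho c ν ∈ W := fun c => by
      obtain ⟨τ, hτ, rfl⟩ := tree_transitive a c
      have hp : permHom (F := F) τ ∈ W := hKW (hK (perm_mem_model D.P hτ))
      have h := mul_mem (mul_mem hp (hle hJ)) (inv_mem hp)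
      rwa [← one_mul (permHom (F := F) τ), ← map_one (baseHom (a := Fin (2 ^ k)) (F := F)), rho_conj, Pi.one_apply,
        one_mul, inv_one, mul_one] at h
    refine mul_mem (hKW (hK hs)) ?_
    show (fun _ => ν) ∈ W.comap baseHom
    exact Subgroup.pi_mem_of_mulSingle_mem _ fun c => hall' c

end model

end CfsgLib.PronormalPSp
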