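import Cfsg.Agent.PronormalPSp.Local
import Cfsg.Agent.ZStar.Final
import Mathlib.GroupTheory.SchurZassenhaus

/-!
Isolated involutions with 2-groups acting on odd subgroups: abstract consequences.
-/

set_option autoImplicit false
set_option linter.unusedSectionVars false

namespace CfsgLib.PronormalPSp

open scoped commutatorElement

variable {G : Type*} [Group G] [Finite G]

theorem mem_pair {z : G} (hz : z * z = 1) {u : G} (hu : u ∈ Subgroup.zpowers z) : u = 1 ∨ u = z := by
  obtain ⟨i, rfl⟩ := Subgroup.mem_zpowers_iff.1 hu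
  rcases Int.even_or_odd i with ⟨l, rfl⟩ | ⟨l, rfl⟩
  · left
    rw [zpow_add, ← (Commute.refl z).mul_zpow, hz, one_zpow]
  · right
    rw [zpow_add, zpow_one, two_mul, zpow_add, ← (Commute.refl z).mul_zpow, hz, one_zpow, one_mul]

theorem pow_card_mem {K : Subgroup G} {x : G} (hx : x ∈ K) : x ^ Nat.card K = 1 := by
  have h := pow_card_eq_one' (x := (⟨x, hx⟩ : K))
  exact congrArg Subtype.val h

theorem mul_comm_inv_eq (y x : G) : ⁅y, x⁆ = y * x * (x * y)⁻¹ := by
  rw [commutatorElement_def]; group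

theorem commute_of_sq {y u : G} {m : ℕ} (hm : Odd m) (hy : y ^ m = 1) (h : Commute (y * y) u) :
    Commute y u := by
  obtain ⟨r, hr⟩ := hm
  have h1 := h.pow_left (r + 1)
  rwa [← pow_two, ← pow_mul, show 2 * (r + 1) = m + 1 by omega, pow_succ, hy, one_mul] at h1

/-- An inverted element of odd order commutes with a centralised element whose conjugate is centralised. -/
theorem commute_of_inverted {y v t : G} {m : ℕ} (hm : Odd m) (hym : y ^ m = 1) (htt : t * t = 1)
    (hyt : t * y * t = y⁻¹) (h1 : v * t = t * v) (h2 : y * v * y⁻¹ * t = t * (y * v * y⁻¹)) : Commute v y := by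
  have hti : t⁻¹ = t := inv_eq_of_mul_eq_one_right htt
  have hy' : y = t * y⁻¹ * t := by
    rw [← hyt, show t * (t * y * t) * t = t * t * y * (t * t) by group, htt, one_mul, mul_one]
  have e : y⁻¹ * v * y = y * v * y⁻¹ := by
    calc y⁻¹ * v * y = t * y * t * v * (t * y⁻¹ * t) := by rw [hyt, ← hy']
      _ = t * y * (t * v * t) * y⁻¹ * t := by group
      _ = t * (y * v * y⁻¹) * t := by rw [mul_assoc t v t, h1, ← mul_assoc t, htt, one_mul]; group
      _ = y * v * y⁻¹ := by rw [← h2, mul_assoc, htt, mul_one]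
  refine (commute_of_sq hm hym ?_).symm
  show y * y * v = v * (y * y)
  calc y * y * v = y * (y * v * y⁻¹) * y := by group
    _ = v * (y * y) := by rw [← e]; group

/-- An involution isolated in a subgroup commutes with its conjugate, given the vanishing of inverted
elements. -/
theorem commute_of_isolated {L A : Subgroup G} (hA : IsPGroup 2 A) (hAL : A ≤ L) {t s : G} (htA : t ∈ A)
    (htt : t * t = 1) (hsL : s ∈ L) (hss : s * s = 1) (hiso : Cfsg.IsIsolatedInvolution (⟨t, hAL htA⟩ : L))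
    (key : ∀ (R : Subgroup G) (m : ℕ), R ≤ L → Odd m → (∀ y ∈ R, y ^ m = 1) →
      A ≤ Subgroup.normalizer (R : Set G) → (∀ z ∈ ⁅R, R⁆, z * t = t * z) →
      ∀ y ∈ R, t * y * t = y⁻¹ → y = 1) : s * t = t * s := by
  obtain ⟨O, hOn, hOodd, hOc⟩ := CfsgLib.ZStar.zstar hiso
  set O' : Subgroup G := O.map L.subtype with hO'
  have hO'odd : Odd (Nat.card O') := by
    rwa [hO', Subgroup.card_map_of_injective L.subtype_injective]
  have hAO : A ≤ Subgroup.normalizer (O' : Set G) := fun h hh => by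
    refine mem_normalizer_of_fin ?_
    rintro _ ⟨x, hx, rfl⟩
    exact ⟨_, hOn.conj_mem x hx ⟨h, hAL hh⟩, rfl⟩
  have hOcomm : ∀ x ∈ O', x * t = t * x :=
    odd_group_commute hA htA htt hO'odd hAO fun R hRO hAR hder =>
      key R _ (hRO.trans (Subgroup.map_subtype_le _)) hO'odd (fun y hy => pow_card_mem (hRO hy)) hAR hder
  have hti : t⁻¹ = t := inv_eq_of_mul_eq_one_right htt
  have hsi : s⁻¹ = s := inv_eq_of_mul_eq_one_right hss
  have hcO : t * s * t⁻¹ * s⁻¹ ∈ O' := ⟨_, hOc ⟨s, hsL⟩, rfl⟩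
  rw [hti, hsi] at hcO
  have hct := hOcomm _ hcO
  have hinv : (t * s * t * s)⁻¹ = t * s * t * s := by
    rw [_root_.mul_inv_rev, _root_.mul_inv_rev, _root_.mul_inv_rev, hti, hsi]
    calc s * (t * (s * t)) = t * (t * s * t * s * t) := by simp only [← mul_assoc, htt, one_mul]
      _ = t * (t * (t * s * t * s)) := by rw [hct]
      _ = t * s * t * s := by rw [← mul_assoc, htt, one_mul]
  have h1 : t * s * t * s = 1 := by
    refine eq_one_of_sq hO'odd (pow_card_mem hcO) (k := 1) ?_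
    rw [pow_one, pow_two]
    nth_rewrite 1 [← hinv]
    rw [inv_mul_cancel]
  calc s * t = t * t * (s * t) * (s * s) := by rw [htt, hss, one_mul, mul_one]
    _ = t * (t * s * t * s) * s := by group
    _ = t * s := by rw [h1, mul_one]

/-- An involution isolated modulo a central involution: its conjugates commute with it. -/
theorem commute_mod_central {M A : Subgroup G} (hA : IsPGroup 2 A) (hAM : A ≤ M) {t z : G} (htA : t ∈ A)
    (htt : t * t = 1) (ht1 : t ≠ 1) (htz : t ≠ z) (hzM : z ∈ M) (hzz : z * z = 1) (hz1 : z ≠ 1)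
    (hcomm : ∀ x ∈ M, x * z = z * x)
    (hiso : ∀ x ∈ M, (x * t * x⁻¹ * t = t * (x * t * x⁻¹) ∨ x * t * x⁻¹ * t = t * (x * t * x⁻¹) * z) →
      x * t * x⁻¹ = t ∨ x * t * x⁻¹ = t * z)
    (key : ∀ (R : Subgroup G) (m : ℕ), R ≤ M → Odd m → (∀ y ∈ R, y ^ m = 1) →
      A ≤ Subgroup.normalizer (R : Set G) → (∀ w ∈ ⁅R, R⁆, w * t = t * w) →
      ∀ y ∈ R, t * y * t = y⁻¹ → y = 1) {g : G} (hg : g ∈ M) : g * t * g⁻¹ * t = t * (g * t * g⁻¹) := by
  have : Fact (Nat.Prime 2) := ⟨Nat.prime_two⟩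
  have htM : t ∈ M := hAM htA
  let zz : M := ⟨z, hzM⟩
  let tt : M := ⟨t, htM⟩
  have hzz' : zz * zz = 1 := Subtype.ext hzz
  let Z : Subgroup M := Subgroup.zpowers zz
  have hZmem : ∀ x : M, x ∈ Z → (x : G) = 1 ∨ (x : G) = z := fun x hx => by
    rcases mem_pair hzz' hx with rfl | rfl
    · exact Or.inl rfl
    · exact Or.inr rfl
  have hZn : Z.Normal := ⟨fun x hx y => by
    have : y * x = x * y := Subtype.ext (by
      show (y : G) * x = x * y
      rcases hZmem x hx with e | e <;> rw [e]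
      · rw [mul_one, one_mul]
      · exact hcomm y y.2)
    rw [this, mul_inv_cancel_right]
    exact hx⟩
  have hiso' : Cfsg.IsIsolatedInvolution (QuotientGroup.mk' Z tt) := by
    refine ⟨orderOf_eq_prime ?_ ?_, ?_⟩
    · rw [← map_pow, show tt ^ 2 = 1 from Subtype.ext (by simpa [pow_two] using htt), map_one]
    · intro e
      rcases hZmem tt ((QuotientGroup.eq_one_iff tt).1 e) with h | h
      · exact ht1 h
      · exact htz h
    · intro q
      obtain ⟨x, rfl⟩ := QuotientGroup.mk'_surjective Z q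
      intro hx
      rw [← map_inv, ← map_mul, ← map_mul] at hx ⊢
      have hx' : QuotientGroup.mk' Z (tt * (x * tt * x⁻¹)) = QuotientGroup.mk' Z (x * tt * x⁻¹ * tt) := by
        rw [map_mul, map_mul _ (x * tt * x⁻¹) tt]; exact hx.eq
      have h' : (t * ((x : G) * t * (x : G)⁻¹))⁻¹ * ((x : G) * t * (x : G)⁻¹ * t) = 1 ∨
          (t * ((x : G) * t * (x : G)⁻¹))⁻¹ * ((x : G) * t * (x : G)⁻¹ * t) = z :=
        hZmem _ (QuotientGroup.eq.1 hx')
      have hres := hiso x x.2 (h'.imp (fun h => (inv_mul_eq_one.1 h).symm) (fun h => inv_mul_eq_iff_eq_mul.1 h))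
      refine QuotientGroup.eq.2 ?_
      rcases hres with e | e
      · rw [show x * tt * x⁻¹ = tt from Subtype.ext e, inv_mul_cancel]; exact one_mem _
      · have : (x * tt * x⁻¹)⁻¹ * tt = zz := Subtype.ext (by
          show ((x : G) * t * (x : G)⁻¹)⁻¹ * t = z
          rw [e, _root_.mul_inv_rev, inv_eq_of_mul_eq_one_right hzz, inv_eq_of_mul_eq_one_right htt, mul_assoc, htt,
            mul_one])
        rw [this]; exact Subgroup.mem_zpowers _
  obtain ⟨Nb, hNn, hNodd, hNc⟩ := CfsgLib.ZStar.zstar hiso'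
  set NM : Subgroup M := Nb.comap (QuotientGroup.mk' Z) with hNM
  set N : Subgroup G := NM.map M.subtype with hN
  set m := Nat.card Nb with hm
  have hzord : orderOf zz = 2 :=
    orderOf_eq_prime (by rw [pow_two, hzz']) fun e => hz1 (congrArg Subtype.val e)
  have hZN : Z ≤ NM := fun x hx => by
    show QuotientGroup.mk' Z x ∈ Nb
    have : QuotientGroup.mk' Z x = 1 := (QuotientGroup.eq_one_iff x).2 hx
    rw [this]
    exact one_mem _
  have hcardN : Nat.card NM = 2 * m := by
    show Nat.card (QuotientGroup.mk ⁻¹' (Nb : Set (M ⧸ Z)) : Set M) = _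
    rw [QuotientGroup.card_preimage_mk Z (Nb : Set (M ⧸ Z)), Nat.card_zpowers, hzord]
    rfl
  have : (Z.subgroupOf NM).Normal := hZn.subgroupOf NM
  have hZcard : Nat.card (Z.subgroupOf NM) = 2 := by
    rw [Nat.card_congr (Subgroup.subgroupOfEquivOfLe hZN).toEquiv, Nat.card_zpowers, hzord]
  obtain ⟨K0, hK0⟩ := Subgroup.exists_right_complement'_of_coprime (N := Z.subgroupOf NM) (by
    have h := (Z.subgroupOf NM).card_mul_index
    rw [hZcard, hcardN] at h
    rw [hZcard, show (Z.subgroupOf NM).index = m by omega]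
    exact hNodd.coprime_two_left)
  set K : Subgroup G := (K0.map NM.subtype).map M.subtype with hK
  have hKN : K ≤ N := Subgroup.map_mono (Subgroup.map_subtype_le _)
  have hKcard : Nat.card K = m := by
    rw [hK, Subgroup.card_map_of_injective M.subtype_injective,
      Subgroup.card_map_of_injective NM.subtype_injective]
    have h := hK0.card_mul_card
    rw [hZcard, hcardN] at h
    omega
  have hsplit : ∀ x ∈ N, x ∈ K ∨ z * x ∈ K := by
    rintro _ ⟨x, hx, rfl⟩
    obtain ⟨⟨⟨⟨v, hv⟩, hvZ⟩, ⟨k, hk⟩⟩, hvk⟩ := hK0.2 ⟨x, hx⟩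
    simp only at hvk
    have hkx : (v : G) * k.1 = (x : G) := congrArg (fun u : NM => ((u : M) : G)) hvk
    have hkK : (k.1 : G) ∈ K := ⟨k.1, ⟨k, hk, rfl⟩, rfl⟩
    show (x : G) ∈ K ∨ z * (x : G) ∈ K
    rw [← hkx]
    rcases hZmem v hvZ with e | e <;> rw [e]
    · exact Or.inl (by rwa [one_mul])
    · exact Or.inr (by rwa [← mul_assoc, hzz, one_mul])
  have hNM' : N ≤ M := Subgroup.map_subtype_le _
  have hKn : A ≤ Subgroup.normalizer (K : Set G) := fun h hh => by
    refine mem_normalizer_of_fin fun x hx => ?_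
    obtain ⟨x', hx', hxe⟩ := hKN hx
    have hmem : h * x * h⁻¹ ∈ N :=
      ⟨⟨h, hAM hh⟩ * x' * ⟨h, hAM hh⟩⁻¹, (hNn.comap (QuotientGroup.mk' Z)).conj_mem x' hx' _, by
        rw [← hxe]; rfl⟩
    refine (hsplit _ hmem).resolve_right fun hzx => hz1 ?_
    have h1 : x ^ m = 1 := hKcard ▸ pow_card_mem hx
    have h2 : (z * (h * x * h⁻¹)) ^ m = 1 := hKcard ▸ pow_card_mem hzx
    have hcz : Commute z (h * x * h⁻¹) := (hcomm _ (hNM' hmem)).symm
    rw [hcz.mul_pow, conj_pow, h1, mul_one, mul_inv_cancel, mul_one] at h2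
    obtain ⟨r, hr⟩ := hNodd
    rw [hr, pow_succ, pow_mul, pow_two, hzz, one_pow, one_mul] at h2
    exact h2
  have hKc : ∀ x ∈ K, x * t = t * x :=
    odd_group_commute hA htA htt (hKcard ▸ hNodd) hKn fun R hRK hAR hder =>
      key R m ((hRK.trans hKN).trans hNM') hNodd (fun y hy => hKcard ▸ pow_card_mem (hRK hy)) hAR hder
  have hw : t * g * t * g⁻¹ ∈ N := by
    refine ⟨tt * ⟨g, hg⟩ * tt * ⟨g, hg⟩⁻¹, ?_, rfl⟩
    have := hNc (QuotientGroup.mk' Z ⟨g, hg⟩)
    rw [← map_inv, ← map_inv, ← map_mul, ← map_mul, ← map_mul,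
      show tt⁻¹ = tt from inv_eq_of_mul_eq_one_right (Subtype.ext htt)] at this
    exact this
  have hct : Commute (t * g * t * g⁻¹) t := by
    rcases hsplit _ hw with h | h
    · exact hKc _ h
    · have h1 : Commute (z * (t * g * t * g⁻¹)) t := hKc _ h
      have hzt : Commute z t := (hcomm t htM).symm
      have h3 := hzt.inv_left.mul_left h1
      rwa [inv_mul_cancel_left] at h3
  have h3 : Commute (t * (t * g * t * g⁻¹)) t := (Commute.refl t).mul_left hct
  rw [← mul_assoc, ← mul_assoc, ← mul_assoc, htt, one_mul] at h3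
  exact h3.eq

end CfsgLib.PronormalPSp
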