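import Cfsg.Agent.PronormalPSp.Support

/-!
Symplectic elements of odd order inverted by the reflection of a plane.
-/

set_option autoImplicit false
set_option linter.unusedSectionVars false

namespace CfsgLib.PronormalPSp

open Matrix CfsgLib.SL2C CfsgLib.Symp CfsgLib.SympSylowTwo CfsgLib.SpFour CfsgLib.Linear.FourGroups

variable {F : Type*} [Field F]
variable {α : Type*} [Fintype α] [DecidableEq α]

/-- The `a`-component of the image of a vector. -/
def invB (y : Spg α F) (a : α) (w : Vec α F) : Fin 2 → F := bl a (y • w)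

/-- The image of a plane, off that plane. -/
def invC (y : Spg α F) (a : α) (x : Fin 2 → F) : Vec α F := y • emb a x - emb a (bl a (y • emb a x))

theorem bl_invC (y : Spg α F) (a : α) (x : Fin 2 → F) : bl a (invC y a x) = 0 := by
  rw [invC, map_sub, bl_emb_self, sub_self]

theorem smul_emb_eq (y : Spg α F) (a : α) (x : Fin 2 → F) :
    y • emb a x = emb a (bl a (y • emb a x)) + invC y a x := by rw [invC, add_sub_cancel]

/-- An element of odd order negates only the zero vector. -/
theorem eq_zero_of_neg {g : Spg α F} {m : ℕ} (hm : Odd m) (hg : g ^ m = 1) (h2 : (2 : F) ≠ 0) {u : Vec α F}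
    (h : g • u = -u) : u = 0 := by
  have hn : ∀ n : ℕ, g ^ n • u = (-1 : F) ^ n • u := by
    intro n
    induction n with
    | zero => simp
    | succ n ih => rw [pow_succ, mul_smul, h, smul_neg, ih, pow_succ, mul_smul, neg_one_smul, smul_neg]
  have h1 := hn m
  rw [hg, one_smul, hm.neg_one_pow, neg_one_smul] at h1
  funext k
  have h3 : (2 : F) * u k = 0 := by
    have := congrFun h1 k
    simp only [Pi.neg_apply] at this
    linear_combination this
  exact (mul_eq_zero.1 h3).resolve_left h2

/-- An element of odd order fixes what its square fixes. -/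
theorem fix_of_sq {g : Spg α F} {m : ℕ} (hm : Odd m) (hg : g ^ m = 1) {u : Vec α F} (h : g • g • u = u) :
    g • u = u := by
  obtain ⟨r, hr⟩ := hm
  have hn : ∀ n : ℕ, (g * g) ^ n • u = u := by
    intro n
    induction n with
    | zero => simp
    | succ n ih => rw [pow_succ, mul_smul, mul_smul, h, ih]
  have h1 := hn (r + 1)
  rwa [← pow_two, ← pow_mul, show 2 * (r + 1) = m + 1 by omega, pow_succ, hg, one_mul] at h1

theorem eq_one_of_sq {G : Type*} [Group G] {g : G} {m : ℕ} (hm : Odd m) (hg : g ^ m = 1) {k : ℕ}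
    (h : g ^ 2 ^ k = 1) : g = 1 := by
  refine orderOf_eq_one_iff.1 (Nat.eq_one_of_dvd_coprimes (a := 2 ^ k) (b := m)
    (hm.coprime_two_left.pow_left k) (orderOf_dvd_of_pow_eq_one h) (orderOf_dvd_of_pow_eq_one hg))

variable [Fintype F] (hodd : Odd (Fintype.card F)) {y : Spg α F} {a : α}

theorem tInv_smul (a : α) (v : Vec α F) :
    tInv (F := F) a • v = v - (emb a (bl a v) + emb a (bl a v)) := bl_ext fun b => by
  rcases eq_or_ne b a with rfl | hne
  · rw [bl_tInv_self, map_sub, map_add, bl_emb_self]; abel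
  · rw [bl_tInv_ne hne, map_sub, map_add, bl_emb_ne hne]; simp

variable (hy : tInv a * y * tInv a = y⁻¹)
include hodd hy

theorem inv_smul_emb (x : Fin 2 → F) :
    y⁻¹ • emb a x = emb a (bl a (y • emb a x)) - invC y a x := by
  rw [← hy, mul_smul, mul_smul, (tInv_neg_iff hodd).2 fun c hc => bl_emb_ne hc x, smul_neg, tInv_smul, map_neg,
    map_neg, invC]
  abel

theorem inv_smul_of_bl {w : Vec α F} (hw : bl a w = 0) :
    y⁻¹ • w = y • w - (emb a (invB y a w) + emb a (invB y a w)) := by
  rw [← hy, mul_smul, mul_smul, (tInv_fix_iff hodd).2 hw, tInv_smul]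
  rfl

theorem form_invC {w : Vec α F} (hw : bl a w = 0) (x : Fin 2 → F) :
    form w (invC y a x) = -det2 (invB y a w) x := by
  have h1 : form w (invC y a x) = form w (y • emb a x) := by
    rw [invC, form_sub_right, form_emb_right a, hw]
    simp [det2]
  rw [h1, ← form_smul_smul y⁻¹, inv_smul_smul, inv_smul_of_bl hodd hy hw, form_sub_left, form_add_left,
    form_emb_left, form_emb_right, bl_emb_self]
  simp only [invB, det2]
  ring

/-- An inverted element is scalar on the plane. -/
theorem exists_scalar : ∃ c : F, ∀ x : Fin 2 → F, bl a (y • emb a x) = c • x := by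
  let L : (Fin 2 → F) →ₗ[F] (Fin 2 → F) := (bl a).comp ((Matrix.mulVecLin y.1).comp (emb a))
  have hL : ∀ x, L x = bl a (y • emb a x) := fun x => rfl
  have hz : ∀ x, det2 (L x) x = 0 := by
    intro x
    have h1 : form (y • emb a x) (emb a x) = det2 x (L x) := by
      rw [← form_smul_smul y⁻¹, inv_smul_smul, inv_smul_emb hodd hy, form_sub_right, form_emb_left, form_emb_left,
        bl_emb_self, bl_invC, hL]
      simp [det2]
    rw [form_emb_right, ← hL] at h1
    simp only [det2] at h1 ⊢
    have h2 : (2 : F) * (L x 1 * x 0 - L x 0 * x 1) = 0 := by linear_combination h1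
    exact (mul_eq_zero.1 h2).resolve_left (two_ne_zero_of_odd hodd)
  refine ⟨L ![1, 0] 0, fun x => ?_⟩
  rw [← hL]
  have e0 := hz ![1, 0]
  have e1 := hz ![0, 1]
  have e2 := hz (![1, 0] + ![0, 1])
  have hx : x = x 0 • (![1, 0] : Fin 2 → F) + x 1 • ![0, 1] := by
    ext k; fin_cases k <;> simp
  conv_lhs => rw [hx, map_add, map_smul, map_smul]
  rw [map_add] at e2
  simp [det2] at e0 e1 e2
  ext k
  fin_cases k
  · simp [e1]; ring
  · simp [e0]
    linear_combination (x 1) * e2 - (x 1) * e0 + (x 1) * e1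

variable {c : F} (hc : ∀ x : Fin 2 → F, bl a (y • emb a x) = c • x)
include hc

theorem smul_emb_scalar (x : Fin 2 → F) : y • emb a x = emb a (c • x) + invC y a x := by
  rw [← hc]; exact smul_emb_eq y a x

/-- The relations from `y⁻¹ y = 1` on the plane. -/
theorem rel_emb (x : Fin 2 → F) :
    invB y a (invC y a x) = (c * c - 1) • x ∧
      y • invC y a x = emb a ((c * c - 1) • x) + c • invC y a x := by
  have h := inv_smul_smul y (emb a x)
  rw [smul_emb_scalar hodd hy hc, smul_add, inv_smul_emb hodd hy, hc, smul_smul,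
    inv_smul_of_bl hodd hy (bl_invC y a x)] at h
  have hlin : invC y a (c • x) = c • invC y a x := by
    have e : y • emb a (c • x) = c • (y • emb a x) := by
      rw [map_smul]
      exact Matrix.mulVec_smul y.1 c (emb a x)
    rw [invC, invC, hc, hc, e, map_smul (emb a) c (c • x), smul_sub]
  rw [hlin] at h
  set B := invB y a (invC y a x) with hB
  have ha := congrArg (bl a) h
  simp only [map_add, map_sub, map_smul, bl_invC, bl_emb_self, smul_zero, sub_zero] at ha
  have hBeq : bl a (y • invC y a x) = B := rfl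
  rw [hBeq] at ha
  have hBval : B = (c * c - 1) • x := by
    rw [sub_smul, one_smul]
    calc B = (c * c) • x - ((c * c) • x + (B - (B + B))) := by abel
      _ = (c * c) • x - x := by rw [ha]
  refine ⟨hBval, ?_⟩
  calc y • invC y a x
      = (emb a ((c * c) • x) - c • invC y a x + (y • invC y a x - (emb a B + emb a B))) -
          emb a ((c * c) • x) + c • invC y a x + (emb a B + emb a B) := by abel
    _ = emb a x - emb a ((c * c) • x) + c • invC y a x + (emb a B + emb a B) := by rw [h]
    _ = _ := by rw [hBval, sub_smul, one_smul, map_sub]; abel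

/-- The relations from `y⁻¹ y = 1` off the plane. -/
theorem rel_bl {w : Vec α F} (hw : bl a w = 0) :
    invB y a (y • w - emb a (invB y a w)) = c • invB y a w ∧
      y • (y • w - emb a (invB y a w)) = emb a (c • invB y a w) + w + invC y a (invB y a w) := by
  set B := invB y a w with hB
  set w' := y • w - emb a B with hw'
  have hw0 : bl a w' = 0 := by rw [hw', map_sub, bl_emb_self, hB, invB, sub_self]
  have h := inv_smul_smul y w
  rw [show y • w = emb a B + w' by rw [hw', add_sub_cancel], smul_add, inv_smul_emb hodd hy, hc,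
    inv_smul_of_bl hodd hy hw0] at h
  set B' := invB y a w' with hB'
  have ha := congrArg (bl a) h
  rw [map_add, map_sub, map_sub, map_add, bl_invC, bl_emb_self, bl_emb_self, hw, sub_zero,
    show bl a (y • w') = B' from rfl] at ha
  have hBval : B' = c • B := by
    calc B' = c • B - (c • B + (B' - (B' + B'))) := by abel
      _ = c • B := by rw [ha, sub_zero]
  refine ⟨hBval, ?_⟩
  calc y • w' = (emb a (c • B) - invC y a B + (y • w' - (emb a B' + emb a B'))) -
          emb a (c • B) + invC y a B + (emb a B' + emb a B') := by abel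
    _ = w - emb a (c • B) + invC y a B + (emb a B' + emb a B') := by rw [h]
    _ = _ := by rw [hBval]; abel

omit hc in
/-- The scalar of an inverted element of odd order is one, given one more commuting relation. -/
theorem scalar_eq_one {m : ℕ} (hm : Odd m) (hym : y ^ m = 1) {k : SL F} (hk : k * k = negOne F)
    (hz : (y * (rho a k * y * rho a k⁻¹)) * ((rho a k * y * rho a k⁻¹) * y)⁻¹ * tInv a =
      tInv a * ((y * (rho a k * y * rho a k⁻¹)) * ((rho a k * y * rho a k⁻¹) * y)⁻¹)) :
    ∀ x : Fin 2 → F, bl a (y • emb a x) = x := by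
  have h2 : (2 : F) ≠ 0 := two_ne_zero_of_odd hodd
  obtain ⟨c, hc⟩ := exists_scalar hodd hy
  set z := (y * (rho a k * y * rho a k⁻¹)) * ((rho a k * y * rho a k⁻¹) * y)⁻¹ with hzdef
  obtain ⟨za, hza⟩ := restrict_of_commute hodd hz
  have hzbl : ∀ u, bl a (z • u) = mt za *ᵥ bl a u := fun u => by
    have hu : bl a (z • (u - emb a (bl a u))) = 0 := by
      rw [← tInv_fix_iff hodd, ← mul_smul, ← hz, mul_smul,
        (tInv_fix_iff hodd).2 (show bl a (u - emb a (bl a u)) = 0 by rw [map_sub, bl_emb_self, sub_self])]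
    rw [smul_sub, map_sub, sub_eq_zero, hza, bl_emb_self] at hu
    exact hu
  have hzeq : ∀ v, mt za *ᵥ bl a (((rho a k * y * rho a k⁻¹) * y) • v) =
      bl a ((y * (rho a k * y * rho a k⁻¹)) • v) := fun v => by
    rw [← hzbl, ← mul_smul, hzdef, inv_mul_cancel_right]
  have hkinv : ∀ x : Fin 2 → F, mt k⁻¹ *ᵥ x = -(mt k *ᵥ x) := fun x => by
    have : k⁻¹ = negOne F * k := inv_eq_of_mul_eq_one_left (by rw [mul_assoc, hk, negOne_sq])
    rw [this, mt_mul, ← Matrix.mulVec_mulVec, mulVec_negOne]
  have hyw : ∀ w, bl a w = 0 → bl a (y • w) = invB y a w := fun w _ => rfl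
  have hsplit : ∀ v : Vec α F, bl a (y • v) = c • bl a v + invB y a (v - emb a (bl a v)) := fun v => by
    rw [invB, smul_sub, map_sub, hc]
    abel
  have hh : ∀ v : Vec α F, bl a ((rho a k * y * rho a k⁻¹) • v) =
      c • bl a v + mt k *ᵥ invB y a (v - emb a (bl a v)) := fun v => by
    rw [mul_smul, mul_smul, bl_rho_self, hsplit, bl_rho_self, Matrix.mulVec_add, Matrix.mulVec_smul,
      mulVec_cancel_inv]
    congr 3
    refine bl_ext fun b => ?_
    rcases eq_or_ne b a with rfl | hb
    · rw [map_sub, map_sub, bl_emb_self, bl_emb_self, bl_rho_self, sub_self, sub_self]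
    · rw [map_sub, map_sub, bl_rho_ne hb, bl_emb_ne hb, bl_emb_ne hb]
  -- the two displayed components
  have hTL : ∀ x : Fin 2 → F, mt za *ᵥ ((c * c) • x + (c * c - 1) • (mt k *ᵥ x)) =
      (c * c) • x + (c * c - 1) • (mt k⁻¹ *ᵥ x) := by
    intro x
    have h := hzeq (emb a x)
    have e1 : bl a (((rho a k * y * rho a k⁻¹) * y) • emb a x) =
        (c * c) • x + (c * c - 1) • (mt k *ᵥ x) := by
      rw [mul_smul (rho a k * y * rho a k⁻¹) y, hh, hc, smul_smul,
        show y • emb a x - emb a (c • x) = invC y a x by rw [invC, hc], (rel_emb hodd hy hc x).1,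
        Matrix.mulVec_smul]
    have e2 : bl a ((y * (rho a k * y * rho a k⁻¹)) • emb a x) =
        (c * c) • x + (c * c - 1) • (mt k⁻¹ *ᵥ x) := by
      have hyh : (rho a k * y * rho a k⁻¹) • emb a x = emb a (c • x) + invC y a (mt k⁻¹ *ᵥ x) := by
        rw [mul_smul, mul_smul, rho_apply a k⁻¹, smul_emb_base, Pi.mulSingle_eq_same,
          smul_emb_scalar hodd hy hc, smul_add, rho_fix _ (bl_invC _ _ _), rho_apply, smul_emb_base,
          Pi.mulSingle_eq_same, Matrix.mulVec_smul, mulVec_cancel_inv]
      rw [mul_smul y, hyh, smul_add, map_add, hc, smul_smul, hyw _ (bl_invC _ _ _), (rel_emb hodd hy hc _).1]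
    rwa [e1, e2] at h
  have hTR : ∀ x : Fin 2 → F, mt za *ᵥ ((c * (c * c - 1)) • (x + mt k *ᵥ x)) =
      (c * (c * c - 1)) • (x + mt k *ᵥ x) := by
    intro x
    set w := invC y a x with hw
    have hw0 : bl a w = 0 := bl_invC _ _ _
    have hB : invB y a w = (c * c - 1) • x := (rel_emb hodd hy hc x).1
    obtain ⟨r1, -⟩ := rel_bl hodd hy hc hw0
    have h := hzeq w
    have hywa : bl a (y • w) = invB y a w := rfl
    have e1 : bl a (((rho a k * y * rho a k⁻¹) * y) • w) = (c * (c * c - 1)) • (x + mt k *ᵥ x) := by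
      rw [mul_smul (rho a k * y * rho a k⁻¹) y, hh, hywa, r1, hB, Matrix.mulVec_smul, Matrix.mulVec_smul,
        smul_smul, smul_smul, smul_add]
    have e2 : bl a ((y * (rho a k * y * rho a k⁻¹)) • w) = (c * (c * c - 1)) • (x + mt k *ᵥ x) := by
      have hyh : (rho a k * y * rho a k⁻¹) • w = emb a (mt k *ᵥ invB y a w) + (y • w - emb a (invB y a w)) := by
        rw [mul_smul, mul_smul, rho_fix _ hw0]
        refine bl_ext fun b => ?_
        rcases eq_or_ne b a with rfl | hb
        · simp [bl_rho_self, invB]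
        · rw [bl_rho_ne hb, map_add, map_sub, bl_emb_ne hb, bl_emb_ne hb, sub_zero, zero_add]
      rw [mul_smul y, hyh, smul_add, map_add, hc, show bl a (y • (y • w - emb a (invB y a w))) =
        invB y a (y • w - emb a (invB y a w)) from rfl, r1, hB, Matrix.mulVec_smul, smul_smul, smul_smul,
        ← smul_add, add_comm]
    rwa [e1, e2] at h
  have hcases : c = 0 ∨ c * c - 1 = 0 := by
    by_contra hno
    push_neg at hno
    have h1 : za = 1 := SL_ext fun u => by
      set x := (2 * (c * (c * c - 1)))⁻¹ • (u - mt k *ᵥ u) with hx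
      have hxu : (c * (c * c - 1)) • (x + mt k *ᵥ x) = u := by
        rw [hx, Matrix.mulVec_smul, ← smul_add, smul_smul, Matrix.mulVec_sub, Matrix.mulVec_mulVec, ← mt_mul, hk,
          mulVec_negOne, show u - mt k *ᵥ u + (mt k *ᵥ u - -u) = (2 : F) • u by rw [two_smul]; abel, smul_smul]
        have := mul_ne_zero hno.1 hno.2
        rw [show c * (c * c - 1) * (2 * (c * (c * c - 1)))⁻¹ * 2 =
          (2 * (c * (c * c - 1))) * (2 * (c * (c * c - 1)))⁻¹ by ring, mul_inv_cancel₀ (mul_ne_zero h2 this),
          one_smul]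
      rw [← hxu, hTR, mt_one, Matrix.one_mulVec]
    have h3 := hTL ![1, 0]
    rw [h1, mt_one, Matrix.one_mulVec, hkinv, smul_neg, add_right_inj] at h3
    have h4 : (2 * (c * c - 1)) • (mt k *ᵥ (![1, 0] : Fin 2 → F)) = 0 := by
      rw [mul_smul, two_smul]
      nth_rewrite 1 [h3]
      abel
    rcases smul_eq_zero.1 h4 with e | e
    · exact mul_ne_zero h2 hno.2 e
    · have := congrArg (fun v => mt k⁻¹ *ᵥ v) e
      simp only [mulVec_inv_cancel, Matrix.mulVec_zero] at this
      simpa using congrFun this 0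
  intro x
  rcases hcases with h0 | hl
  · exfalso
    have hx : y • y • emb a (![1, 0] : Fin 2 → F) = -(emb a ![1, 0]) := by
      rw [smul_emb_scalar hodd hy hc, smul_add, h0, zero_smul, map_zero, smul_zero, zero_add,
        (rel_emb hodd hy hc _).2, h0]
      simp [← map_neg]
    have := eq_zero_of_neg (g := y ^ 2) hm (by rw [← pow_mul, mul_comm, pow_mul, hym, one_pow]) h2
      (u := emb a ![1, 0]) (by rw [pow_two, mul_smul, hx])
    have := congrArg (bl a) this
    simpa using congrFun this 0
  rcases mul_eq_zero.1 (show (c - 1) * (c + 1) = 0 by linear_combination hl) with e | e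
  · rw [hc, sub_eq_zero.1 e, one_smul]
  · exfalso
    have hcm : c = -1 := eq_neg_of_add_eq_zero_left e
    have hC0 : invC y a (![1, 0] : Fin 2 → F) = 0 := eq_zero_of_neg hm hym h2 (by
      rw [(rel_emb hodd hy hc _).2, hl, zero_smul, map_zero, zero_add, hcm, neg_one_smul])
    have := eq_zero_of_neg hm hym h2 (u := emb a (![1, 0] : Fin 2 → F)) (by
      rw [smul_emb_scalar hodd hy hc, hC0, add_zero, hcm, neg_one_smul, map_neg])
    have := congrArg (bl a) this
    simpa using congrFun this 0

omit hc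

variable (h1 : ∀ x : Fin 2 → F, bl a (y • emb a x) = x)
include h1

/-- The commutator with a quaternion of the plane, for scalar one. -/
theorem twist_emb (k : SL F) (x : Fin 2 → F) :
    (y * (rho a k * y * rho a k⁻¹)) • emb a x = ((rho a k * y * rho a k⁻¹) * y) • emb a x := by
  have hc : ∀ x : Fin 2 → F, bl a (y • emb a x) = (1 : F) • x := fun x => by rw [h1, one_smul]
  have hE : ∀ x, y • emb a x = emb a x + invC y a x := fun x => by
    rw [smul_emb_scalar hodd hy hc, one_smul]
  have hC : ∀ x, y • invC y a x = invC y a x := fun x => by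
    rw [(rel_emb hodd hy hc x).2]; simp
  have hC' : ∀ x, (rho a k * y * rho a k⁻¹) • invC y a x = invC y a x := fun x => by
    rw [mul_smul, mul_smul, rho_fix _ (bl_invC _ _ _), hC, rho_fix _ (bl_invC _ _ _)]
  have hk : ∀ x, (rho a k * y * rho a k⁻¹) • emb a x = emb a x + invC y a (mt k⁻¹ *ᵥ x) := fun x => by
    rw [mul_smul, mul_smul, rho_apply a k⁻¹, smul_emb_base, Pi.mulSingle_eq_same, hE, smul_add,
      rho_fix _ (bl_invC _ _ _), rho_apply, smul_emb_base, Pi.mulSingle_eq_same, mulVec_cancel_inv]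
  rw [mul_smul y (rho a k * y * rho a k⁻¹), mul_smul (rho a k * y * rho a k⁻¹) y, hk, smul_add, hE, hC,
    smul_add, hk, hC']
  abel

theorem twist_bl {k : SL F} (hk : k * k = negOne F) {w : Vec α F} (hw : bl a w = 0) :
    (y * (rho a k * y * rho a k⁻¹)) • w = ((rho a k * y * rho a k⁻¹) * y) •
      (w + (invC y a (mt k *ᵥ invB y a w) + invC y a (mt k *ᵥ invB y a w))) := by
  have hc : ∀ x : Fin 2 → F, bl a (y • emb a x) = (1 : F) • x := fun x => by rw [h1, one_smul]
  have hE : ∀ x, y • emb a x = emb a x + invC y a x := fun x => by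
    rw [smul_emb_scalar hodd hy hc, one_smul]
  have hC : ∀ x, y • invC y a x = invC y a x := fun x => by
    rw [(rel_emb hodd hy hc x).2]; simp
  have hkinv : ∀ x, invC y a (mt k⁻¹ *ᵥ x) = -(invC y a (mt k *ᵥ x)) := fun x => by
    have : k⁻¹ = negOne F * k := inv_eq_of_mul_eq_one_left (by rw [mul_assoc, hk, negOne_sq])
    rw [this, mt_mul, ← Matrix.mulVec_mulVec, mulVec_negOne, invC, invC, map_neg, smul_neg, map_neg, map_neg]
    abel
  have hC' : ∀ x, (rho a k * y * rho a k⁻¹) • invC y a x = invC y a x := fun x => by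
    rw [mul_smul, mul_smul, rho_fix _ (bl_invC _ _ _), hC, rho_fix _ (bl_invC _ _ _)]
  have hk' : ∀ x, (rho a k * y * rho a k⁻¹) • emb a x = emb a x + invC y a (mt k⁻¹ *ᵥ x) := fun x => by
    rw [mul_smul, mul_smul, rho_apply a k⁻¹, smul_emb_base, Pi.mulSingle_eq_same, hE, smul_add,
      rho_fix _ (bl_invC _ _ _), rho_apply, smul_emb_base, Pi.mulSingle_eq_same, mulVec_cancel_inv]
  obtain ⟨-, r2⟩ := rel_bl hodd hy hc hw
  rw [one_smul] at r2
  set B := invB y a w with hB
  set w' := y • w - emb a B with hw'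
  have hw0 : bl a w' = 0 := by rw [hw', map_sub, bl_emb_self, hB, invB, sub_self]
  have hyw : y • w = emb a B + w' := by rw [hw', add_sub_cancel]
  have hhw : ∀ u : Vec α F, bl a u = 0 → (rho a k * y * rho a k⁻¹) • u = rho a k • y • u := fun u hu => by
    rw [mul_smul, mul_smul, rho_fix _ hu]
  have hρ : ∀ x : Fin 2 → F, rho a k • emb a x = emb a (mt k *ᵥ x) := fun x => by
    rw [rho_apply, smul_emb_base, Pi.mulSingle_eq_same]
  rw [mul_smul y (rho a k * y * rho a k⁻¹), mul_smul (rho a k * y * rho a k⁻¹) y, hhw w hw, hyw]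
  simp only [smul_add, rho_fix k hw0, hC, hC', hE, hk', r2, hhw w' hw0, hkinv, rho_fix k hw,
    rho_fix k (bl_invC y a B), hyw, hρ]
  abel

omit h1

end CfsgLib.PronormalPSp
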