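import Cfsg.Agent.PronormalPSp.Swap
import Cfsg.Agent.PronormalPSp.Inverted
import Cfsg.Agent.Solvable.CoprimeAct

/-!
Odd subgroups normalised by quaternion groups, and centralisers of reflections.
-/

set_option autoImplicit false
set_option linter.unusedSectionVars false

namespace CfsgLib.PronormalPSp

open Matrix CfsgLib.SL2C CfsgLib.Symp CfsgLib.SympSylowTwo CfsgLib.SpFour CfsgLib.Linear.FourGroups
open scoped commutatorElement

/-- A group element inside a normaliser is corrected into the normaliser of a Sylow subgroup. -/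
theorem exists_frattini_sylow {G : Type*} [Group G] [Finite G] {p : ℕ} [Fact p.Prime] {K : Subgroup G}
    (P : Sylow p K) {x : G} (hx : x ∈ Subgroup.normalizer (K : Set G)) :
    ∃ k ∈ K, ∀ y ∈ (P : Subgroup K).map K.subtype, k * x * y * (k * x)⁻¹ ∈ (P : Subgroup K).map K.subtype := by
  obtain ⟨Q, hQ⟩ := CfsgLib.CoprimeAct.conj_smul_sylow_map hx P
  obtain ⟨⟨k, hk⟩, hkQ⟩ := MulAction.exists_smul_eq K Q P
  refine ⟨k, hk, fun y hy => ?_⟩
  have h1 : x * y * x⁻¹ ∈ (Q : Subgroup K).map K.subtype := by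
    rw [hQ]; exact ⟨y, hy, rfl⟩
  obtain ⟨u, hu, hue⟩ := h1
  refine ⟨⟨k, hk⟩ * u * ⟨k, hk⟩⁻¹, ?_, ?_⟩
  · rw [← hkQ, Sylow.coe_subgroup_smul, Subgroup.pointwise_smul_def]
    exact ⟨u, hu, rfl⟩
  · simp only [Subgroup.coe_subtype] at hue
    show k * (u : G) * k⁻¹ = _
    rw [hue]
    group

/-- Odd-order subgroups normalised by a 2-group are centralised by an involution of it, provided
inverted elements vanish in prime-power subgroups with centralised derived group. -/
theorem odd_group_commute {G : Type*} [Group G] [Finite G] {A : Subgroup G} (hA : IsPGroup 2 A) {t : G}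
    (ht : t ∈ A) (htt : t * t = 1) {N : Subgroup G} (hN : Odd (Nat.card N))
    (hAN : A ≤ Subgroup.normalizer (N : Set G))
    (key : ∀ R : Subgroup G, R ≤ N → A ≤ Subgroup.normalizer (R : Set G) →
      (∀ z ∈ ⁅R, R⁆, z * t = t * z) → ∀ y ∈ R, t * y * t = y⁻¹ → y = 1) :
    ∀ x ∈ N, x * t = t * x := by
  have : Fact (Nat.Prime 2) := ⟨Nat.prime_two⟩
  have hti : t⁻¹ = t := inv_eq_of_mul_eq_one_right htt
  -- prime-power subgroups
  have hpr : ∀ (n : ℕ) (R : Subgroup G), Nat.card R ≤ n → ∀ r : ℕ, r.Prime → IsPGroup r R → R ≤ N →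
      A ≤ Subgroup.normalizer (R : Set G) → ∀ x ∈ R, x * t = t * x := by
    intro n
    induction n with
    | zero => intro R h; exact absurd h (Nat.not_le.2 Nat.card_pos)
    | succ n ih =>
      intro R hcard r hr hR hRN hAR x hx
      have : Fact r.Prime := ⟨hr⟩
      by_cases hbot : R = ⊥
      · rw [hbot, Subgroup.mem_bot] at hx
        rw [hx, one_mul, mul_one]
      have : Nontrivial R := (Subgroup.nontrivial_iff_ne_bot R).2 hbot
      have : Group.IsNilpotent R := hR.isNilpotent
      have hlt : (commutator R).map R.subtype < R := by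
        refine lt_of_le_of_ne (Subgroup.map_subtype_le _) fun e => ?_
        refine (IsSolvable.commutator_lt_top_of_nontrivial (G := R)).ne (Subgroup.map_injective R.subtype_injective ?_)
        rw [e, ← MonoidHom.range_eq_map, Subgroup.range_subtype]
      rw [Subgroup.map_subtype_commutator] at hlt
      have hnor : A ≤ Subgroup.normalizer ((⁅R, R⁆ : Subgroup G) : Set G) := fun g hg => by
        refine CfsgLib.Pronormal.mem_normalizer_of_map_conj ?_
        rw [Subgroup.map_commutator, CfsgLib.Pronormal.map_conj_of_mem_normalizer (hAR hg)]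
      have hder := ih _ (by have := CfsgLib.Solvable.card_lt_of_lt hlt; omega) r hr (hR.to_le hlt.le)
        (hlt.le.trans hRN) hnor
      by_contra hne
      have hy : x * t * x⁻¹ * t ∈ R := by
        have := conj_mem_of_normalizer (hAR ht) (inv_mem hx)
        rw [hti] at this
        simpa [mul_assoc] using mul_mem hx this
      have hinv : t * (x * t * x⁻¹ * t) * t = (x * t * x⁻¹ * t)⁻¹ := by
        simp only [_root_.mul_inv_rev, inv_inv, hti, mul_assoc, htt, mul_one]
      have h1 := key R hRN hAR hder _ hy hinv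
      apply hne
      rw [mul_eq_one_iff_eq_inv, hti, mul_inv_eq_iff_eq_mul] at h1
      exact h1
  intro x hx
  have hsolv : Group.IsSolvable A ∨ Group.IsSolvable N := Or.inl (by
    have : Group.IsNilpotent A := hA.isNilpotent
    infer_instance)
  have hcop : (Nat.card A).Coprime (Nat.card N) := by
    obtain ⟨k, hk⟩ := IsPGroup.iff_card.1 hA
    rw [hk]
    exact hN.coprime_two_left.pow_left k
  have hP : ∀ q : Nat.Primes, ∃ P : Sylow (q : ℕ) N,
      A ≤ Subgroup.normalizer ((P : Subgroup N).map N.subtype : Set G) := fun q =>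
    haveI : Fact (q : ℕ).Prime := ⟨q.2⟩
    CfsgLib.CoprimeAct.exists_invariant_sylow hAN hcop hsolv q
  choose P hP using hP
  have hle : (⨆ q : Nat.Primes, (P q : Subgroup N)) ≤ (Subgroup.centralizer ({t} : Set G)).subgroupOf N := by
    refine iSup_le fun q u hu => ?_
    rw [Subgroup.mem_subgroupOf, Subgroup.mem_centralizer_singleton_iff]
    exact hpr (Nat.card ((P q : Subgroup N).map N.subtype)) _ le_rfl q q.2 ((P q).2.map _)
      (Subgroup.map_subtype_le _) (hP q) _ ⟨u, hu, rfl⟩
  rw [CfsgLib.Solvable.iSup_sylow_eq_top] at hle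
  exact Subgroup.mem_centralizer_singleton_iff.1 (hle (Subgroup.mem_top (⟨x, hx⟩ : N)))

variable {F : Type*} [Field F] [Fintype F]
variable {α : Type*} [Fintype α] [DecidableEq α]
variable {D : QData F} {hodd : Odd (Fintype.card F)}

/-- The local statement for a set of planes. -/
def Loc (hodd : Odd (Fintype.card F)) (D : QData F) (S : Finset α) : Prop :=
  ∀ M : Subgroup (Spg α F), M ≤ SpS F S → BS D S ≤ M → ¬ Pair hodd D M → M ≤ Mon α F

variable {S : Finset α} {M : Subgroup (Spg α F)}

/-- Centralisers of reflections are monomial, by induction. -/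
theorem centralizer_le_Mon (IH : ∀ a ∈ S, Loc hodd D (S.erase a)) (hM : M ≤ SpS F S) (hB : BS D S ≤ M)
    (hP : ¬ Pair hodd D M) {a : α} (ha : a ∈ S) {x : Spg α F} (hx : x ∈ M)
    (hxt : x * tInv a = tInv a * x) : x ∈ Mon α F := by
  have : Fact (Nat.Prime 2) := ⟨Nat.prime_two⟩
  have hxt' : x⁻¹ * tInv a = tInv a * x⁻¹ := (show Commute x (tInv a) from hxt).inv_left.eq
  obtain ⟨k', hk'⟩ := restrict_of_commute hodd hxt'
  set K1 := M ⊓ SpS F (S.erase a) with hK1
  have hBK : BS D (S.erase a) ≤ K1 := le_inf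
    ((BS_le_iff D).2 fun b hb h hh => hB (rho_mem_BS D (Finset.mem_of_mem_erase hb) hh)) (BS_le_SpS D _)
  have hK1M : K1 ≤ Mon α F := IH a ha K1 inf_le_right hBK fun h => hP (h.mono inf_le_left)
  have hnor : x ∈ Subgroup.normalizer (K1 : Set (Spg α F)) := by
    refine mem_normalizer_of_fin fun u hu =>
      Subgroup.mem_inf.2 ⟨M.mul_mem (M.mul_mem hx hu.1) (M.inv_mem hx), fun d hd z => ?_⟩
    rw [mul_smul, mul_smul]
    by_cases hdS : d ∈ S
    · obtain rfl : d = a := by_contra fun hne => hd (Finset.mem_erase.2 ⟨hne, hdS⟩)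
      rw [hk', hu.2 d (Finset.notMem_erase d S), ← hk', smul_inv_smul]
    · rw [(inv_mem (hM hx) : x⁻¹ ∈ SpS F S) d hdS, hu.2 d (fun h => hdS (Finset.mem_of_mem_erase h)), hM hx d hdS]
  obtain ⟨P, hPB⟩ := ((isPGroup_BS D (S.erase a)).comap_of_injective K1.subtype K1.subtype_injective).exists_le_sylow
  obtain ⟨k, hk, hkx⟩ := exists_frattini_sylow P hnor
  have hkMon : k * x ∈ Mon α F := by
    refine mem_Mon_of_conj hodd fun b => ?_
    by_cases hbS : b ∈ S
    · rcases eq_or_ne b a with rfl | hba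
      · refine ⟨b, ?_⟩
        have hkt : k * tInv b = tInv b * k :=
          commute_tInv_of_fix hodd (hk.2 b (Finset.notMem_erase b S))
        rw [mul_assoc k, hxt, ← mul_assoc, hkt, mul_assoc (tInv b), mul_inv_cancel_right]
      · refine conj_tInv_of_i (D := D) hodd ?_
        have hb' : b ∈ S.erase a := Finset.mem_erase.2 ⟨hba, hbS⟩
        obtain ⟨u, -, hu⟩ := hkx _ (show rho b D.i ∈ (P : Subgroup K1).map K1.subtype from
          ⟨⟨rho b D.i, hBK (rho_mem_BS D hb' D.hi)⟩, hPB (rho_mem_BS D hb' D.hi), rfl⟩)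
        rw [← hu]
        exact hK1M u.2
    · exact ⟨b, commute_tInv_of_not_mem hodd (hM (mul_mem hk.1 hx)) hbS⟩
  rw [← inv_mul_cancel_left k x]
  exact mul_mem (inv_mem (hK1M hk)) hkMon

theorem mono_inverted_eq_one {y : Spg α F} {a : α} (hy : tInv a * y * tInv a = y⁻¹) {m : ℕ} (hm : Odd m)
    (hym : y ^ m = 1) (hmon : y ∈ Mon α F) : y = 1 := by
  obtain ⟨σ, hσ⟩ := mono_tInv hmon
  have hy2 : y * y = tInv (σ a) * tInv a := by
    have : y = tInv a * y⁻¹ * tInv a := by
      rw [← hy, show tInv a * (tInv a * y * tInv a) * tInv a =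
        (tInv a * tInv a) * y * (tInv a * tInv a) by group, tInv_sq, one_mul, mul_one]
    rw [← hσ]
    conv_lhs => arg 2; rw [this]
    simp only [mul_assoc]
  refine eq_one_of_sq hm hym (k := 2) ?_
  rw [show 2 ^ 2 = 2 * 2 from rfl, pow_mul, pow_two y, hy2, pow_two]
  rcases eq_or_ne (σ a) a with e | e
  · rw [e, tInv_sq, one_mul]
  · have hc : Commute (tInv (F := F) a) (tInv (σ a)) := rho_commute (Ne.symm e) _ _
    rw [mul_assoc, ← mul_assoc (tInv a), hc.eq, mul_assoc,
      ← mul_assoc (tInv (σ a))]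
    show tInv (σ a) * tInv (σ a) * (tInv a * tInv a) = 1
    rw [tInv_sq, tInv_sq, one_mul]

theorem inverted_of_fix (hodd : Odd (Fintype.card F)) {y : Spg α F} {a : α} (hy : tInv a * y * tInv a = y⁻¹)
    (hfix : ∀ x : Fin 2 → F, y • emb a x = emb a x) {m : ℕ} (hm : Odd m) (hym : y ^ m = 1) : y = 1 := by
  refine eq_one_of_sq hm hym (k := 1) ?_
  rw [← commute_tInv_of_fix hodd hfix, mul_assoc, tInv_sq, mul_one] at hy
  rw [pow_one, pow_two]
  nth_rewrite 2 [hy]
  rw [mul_inv_cancel]

/-- Inverted elements vanish when there are at least three planes. -/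
theorem inverted_eq_one_big (hodd : Odd (Fintype.card F)) (hM : M ≤ SpS F S) (hB : BS D S ≤ M)
    (hC : ∀ c ∈ S, ∀ x ∈ M, x * tInv c = tInv c * x → x ∈ Mon α F) {a : α} (ha : a ∈ S)
    (hcard : 3 ≤ S.card) {y : Spg α F} (hyM : y ∈ M) {m : ℕ} (hm : Odd m) (hym : y ^ m = 1)
    (hy : tInv a * y * tInv a = y⁻¹)
    (hz : (y * (rho a D.i * y * rho a D.i⁻¹)) * ((rho a D.i * y * rho a D.i⁻¹) * y)⁻¹ * tInv a =
      tInv a * ((y * (rho a D.i * y * rho a D.i⁻¹)) * ((rho a D.i * y * rho a D.i⁻¹) * y)⁻¹)) : y = 1 := by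
  have h2 : (2 : F) ≠ 0 := two_ne_zero_of_odd hodd
  have h1 := scalar_eq_one hodd hy hm hym (ii D) hz
  -- the commutators with the quaternions
  have hZ : ∀ k ∈ (D.P : Subgroup (SL F)), k * k = negOne F → ∀ d, d ≠ a → ∀ x : Fin 2 → F, ∀ c, c ≠ d →
      bl c (invC y a (mt k *ᵥ invB y a (emb d x))) = 0 := by
    intro k hkP hk d hda x c hcd
    by_cases hx0 : x = 0
    · simp [hx0, invB, invC]
    set y' := rho a k * y * rho a k⁻¹ with hy'
    set Z := (y' * y)⁻¹ * (y * y') with hZdef
    have hy'M : y' ∈ M := mul_mem (mul_mem (hB (rho_mem_BS D ha hkP)) hyM) (hB (rho_mem_BS D ha (inv_mem hkP)))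
    have hZfix : ∀ z : Fin 2 → F, Z • emb a z = emb a z := fun z => by
      rw [hZdef, mul_smul, twist_emb hodd hy h1 k z, inv_smul_smul]
    have hZw : ∀ w : Vec α F, bl a w = 0 →
        Z • w = w + (invC y a (mt k *ᵥ invB y a w) + invC y a (mt k *ᵥ invB y a w)) := fun w hw => by
      rw [hZdef, mul_smul, twist_bl hodd hy h1 hk hw, inv_smul_smul]
    have hZM : Z ∈ Mon α F := hC a ha Z (mul_mem (inv_mem (mul_mem hy'M hyM)) (mul_mem hyM hy'M))
      (commute_tInv_of_fix hodd hZfix)
    obtain ⟨f, σ, hf⟩ := hZM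
    set w := emb d x with hw
    have hw0 : bl a w = 0 := bl_emb_ne hda.symm _
    set T := invC y a (mt k *ᵥ invB y a w) with hT
    have hZC : Z • T = T := by
      have hc' : ∀ x : Fin 2 → F, bl a (y • emb a x) = (1 : F) • x := fun x => by rw [h1, one_smul]
      rw [hT, hZw _ (bl_invC _ _ _), (rel_emb hodd hy hc' _).1, one_mul, sub_self, zero_smul, Matrix.mulVec_zero]
      simp [invC]
    have hZi : Z⁻¹ • w = w - (T + T) := by
      rw [inv_smul_eq_iff, smul_sub, smul_add, hZC, hZw w hw0]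
      abel
    have hσ : σ d = d := by
      by_contra hne
      have e1 : bl d (Z • w) = 0 := by rw [hf, hw, smul_emb_mono, bl_emb_ne (Ne.symm hne)]
      have e2 : bl d (Z⁻¹ • w) = 0 := by
        rw [hf, mono_inv, hw, smul_emb_mono, bl_emb_ne]
        intro e
        exact hne (by conv_lhs => rw [e, Equiv.Perm.inv_def, Equiv.apply_symm_apply])
      rw [hZw w hw0, map_add, map_add, hw, bl_emb_self] at e1
      rw [hZi, map_sub, map_add, hw, bl_emb_self] at e2
      have : x + x = 0 := by
        calc x + x = (x + (bl d T + bl d T)) + (x - (bl d T + bl d T)) := by abel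
          _ = 0 := by rw [hT, hw, e1, e2, add_zero]
      exact hx0 (neg_eq_self hodd (by rw [eq_comm, ← sub_eq_zero, sub_neg_eq_add, this]))
    have e3 : bl c (Z • w) = 0 := by rw [hf, hw, smul_emb_mono, hσ, bl_emb_ne hcd]
    rw [hZw w hw0, map_add, map_add, hw, bl_emb_ne hcd, zero_add] at e3
    exact neg_eq_self hodd (neg_eq_of_add_eq_zero_left e3)
  have hdet : ∀ k ∈ (D.P : Subgroup (SL F)), k * k = negOne F → ∀ d, d ≠ a → ∀ x : Fin 2 → F, ∀ c, c ≠ d → c ≠ a →
      ∀ z : Fin 2 → F, det2 (invB y a (emb c z)) (mt k *ᵥ invB y a (emb d x)) = 0 := by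
    intro k hkP hk d hda x c hcd hca z
    have h := form_invC hodd hy (w := emb c z) (bl_emb_ne hca.symm _) (mt k *ᵥ invB y a (emb d x))
    rw [form_emb_left, hZ k hkP hk d hda x c hcd] at h
    simp only [det2, Pi.zero_apply, zero_mul, mul_zero, sub_self] at h ⊢
    linear_combination h
  -- only one plane is moved to the plane `a`
  obtain ⟨b, hb⟩ : ∃ b, ∀ c, c ≠ a → c ≠ b → ∀ z : Fin 2 → F, invB y a (emb c z) = 0 := by
    by_contra hno
    push_neg at hno
    obtain ⟨d, hda, -, x, hx⟩ := hno a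
    obtain ⟨c, hca, hcd, z, hz⟩ := hno d
    exact irreducible D hodd hx hz (hdet _ D.hi (ii D) d hda x c hcd hca z)
      (hdet _ D.hj D.hjj d hda x c hcd hca z) (hdet _ (ij_mem D) (kk D) d hda x c hcd hca z)
  obtain ⟨c, hc, hcab⟩ := Finset.exists_mem_notMem_of_card_lt_card (s := ({a, b} : Finset α)) (t := S)
    (lt_of_le_of_lt Finset.card_le_two hcard)
  simp only [Finset.mem_insert, Finset.mem_singleton, not_or] at hcab
  have hfix : ∀ z : Fin 2 → F, y • emb c z = emb c z := fun z => by
    refine fix_of_sq hm hym ?_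
    have h3 := inv_smul_of_bl hodd hy (w := emb c z) (bl_emb_ne (Ne.symm hcab.1) _)
    rw [hb c hcab.1 hcab.2 z, map_zero, add_zero, sub_zero] at h3
    rw [← h3, smul_inv_smul]
  exact mono_inverted_eq_one hy hm hym (hC c hc y hyM (commute_tInv_of_fix hodd hfix))

/-- Inverted elements vanish when there are exactly two planes. -/
theorem inverted_eq_one_two (hodd : Odd (Fintype.card F)) (D : QData F) {a b : α} (hab : a ≠ b)
    {y : Spg α F} (hyS : y ∈ SpS F {a, b}) {m : ℕ} (hm : Odd m) (hym : y ^ m = 1)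
    (hya : tInv a * y * tInv a = y⁻¹) (hyb : tInv b * y * tInv b = y⁻¹)
    (h1a : ∀ x : Fin 2 → F, bl a (y • emb a x) = x) (h1b : ∀ x : Fin 2 → F, bl b (y • emb b x) = x)
    (hz : ∀ k ∈ (D.P : Subgroup (SL F)), ∀ z, z = (y * (rho b k * y * rho b k⁻¹)) * ((rho b k * y * rho b k⁻¹) * y)⁻¹ →
      z * tInv a = tInv a * z ∧ ∀ h ∈ (D.P : Subgroup (SL F)), Commute (rho a h * z * rho a h⁻¹) y) : y = 1 := by
  have hout : ∀ c, c ≠ a → c ≠ b → ∀ v : Vec α F, bl c (y • v) = bl c v := fun c hca hcb v => by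
    refine sub_eq_zero.1 (det2_eq_zero fun w => ?_)
    have h1 : det2 (bl c (y • v)) w = det2 (bl c v) w := by
      rw [← form_emb_right c w (y • v), ← hyS c (by simp [hca, hcb]) w, form_smul_smul, form_emb_right]
    simp only [det2, Pi.sub_apply] at h1 ⊢
    linear_combination h1
  set B : (Fin 2 → F) → (Fin 2 → F) := fun x => bl a (y • emb b x) with hB
  set C : (Fin 2 → F) → (Fin 2 → F) := fun x => bl b (y • emb a x) with hC
  have hEa : ∀ x, y • emb a x = emb a x + emb b (C x) := fun x => bl_ext fun c => by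
    rw [map_add]
    rcases eq_or_ne c a with rfl | hca
    · rw [h1a, bl_emb_self, bl_emb_ne hab, add_zero]
    rcases eq_or_ne c b with rfl | hcb
    · rw [bl_emb_self, bl_emb_ne hca, zero_add]
    · rw [hout c hca hcb, bl_emb_ne hcb, add_zero]
  have hEb : ∀ x, y • emb b x = emb b x + emb a (B x) := fun x => bl_ext fun c => by
    rw [map_add]
    rcases eq_or_ne c b with rfl | hcb
    · rw [h1b, bl_emb_self, bl_emb_ne hab.symm, add_zero]
    rcases eq_or_ne c a with rfl | hca
    · rw [bl_emb_self, bl_emb_ne hcb, zero_add]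
    · rw [hout c hca hcb, bl_emb_ne hca, add_zero]
  have hBC : ∀ x, B (C x) = 0 := fun x => by
    have h := (rel_emb hodd hya (c := 1) (fun u => by rw [h1a, one_smul]) x).1
    rw [one_mul, sub_self, zero_smul, invB, invC, h1a, hEa, add_sub_cancel_left] at h
    exact h
  have hCB : ∀ x, C (B x) = 0 := fun x => by
    have h := (rel_emb hodd hyb (c := 1) (fun u => by rw [h1b, one_smul]) x).1
    rw [one_mul, sub_self, zero_smul, invB, invC, h1b, hEb, add_sub_cancel_left] at h
    exact h
  have hform : ∀ z x, det2 z (C x) = -det2 (B z) x := fun z x => by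
    have h := form_invC hodd hya (w := emb b z) (bl_emb_ne hab _) x
    rw [invC, h1a, hEa, add_sub_cancel_left, form_emb_left, bl_emb_self] at h
    exact h
  have hlinB : ∀ u v, B (u + v) = B u + B v := fun u v => by simp only [B, map_add, smul_add]
  have hnegB : ∀ u, B (-u) = -B u := fun u => by simp only [B, map_neg, smul_neg]
  have hlinC : ∀ u v, C (u + v) = C u + C v := fun u v => by simp only [C, map_add, smul_add]
  -- the commutator acts as a transvection on the plane `a`
  have key : ∀ k ∈ (D.P : Subgroup (SL F)), k * k = negOne F → ∀ h ∈ (D.P : Subgroup (SL F)), ∀ x,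
      B (mt k *ᵥ C (mt h *ᵥ B x)) = 0 := by
    intro k hkP hk h hh x
    obtain ⟨hzt, hzy⟩ := hz k hkP _ rfl
    set y' := rho b k * y * rho b k⁻¹ with hy'
    set z := y * y' * (y' * y)⁻¹ with hzdef
    set N : (Fin 2 → F) → (Fin 2 → F) := fun u => B (mt k *ᵥ C u) with hN
    have hkB : ∀ u, B (mt k⁻¹ *ᵥ u) = -B (mt k *ᵥ u) := fun u => by
      have : k⁻¹ = negOne F * k := inv_eq_of_mul_eq_one_left (by rw [mul_assoc, hk, negOne_sq])
      rw [this, mt_mul, ← Matrix.mulVec_mulVec, mulVec_negOne, hnegB]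
    have hρb : ∀ (g : SL F) (u : Fin 2 → F), rho b g • emb b u = emb b (mt g *ᵥ u) := fun g u => by
      rw [rho_apply, smul_emb_base, Pi.mulSingle_eq_same]
    have hρa : ∀ (g : SL F) (u : Fin 2 → F), rho b g • emb a u = emb a u := fun g u =>
      rho_fix g (bl_emb_ne hab.symm _)
    have hy'a : ∀ u, y' • emb a u = emb a u + emb b (mt k *ᵥ C u) := fun u => by
      rw [hy', mul_smul, mul_smul, hρa, hEa, smul_add, hρa, hρb]
    have hy'b : ∀ u, y' • emb b u = emb b u + emb a (B (mt k⁻¹ *ᵥ u)) := fun u => by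
      rw [hy', mul_smul, mul_smul, hρb, hEb, smul_add, hρb, hρa, mulVec_cancel_inv]
    clear_value y' z
    obtain ⟨za, hza⟩ := restrict_of_commute hodd hzt
    have hNN : ∀ u, N (N u) = 0 := fun u => by
      simp only [N, hCB, Matrix.mulVec_zero]
      simp [B]
    have hkC : ∀ u, mt k *ᵥ C (B u) = 0 := fun u => by rw [hCB, Matrix.mulVec_zero]
    have hzeq : ∀ v : Vec α F, z • (y' * y) • v = (y * y') • v := fun v => by
      rw [← mul_smul, hzdef, inv_mul_cancel_right]
    have hzb : ∀ u, bl a (z • u) = mt za *ᵥ bl a u := fun u => by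
      have hu : bl a (z • (u - emb a (bl a u))) = 0 := by
        rw [← tInv_fix_iff hodd, ← mul_smul, ← hzt, mul_smul,
          (tInv_fix_iff hodd).2 (show bl a (u - emb a (bl a u)) = 0 by rw [map_sub, bl_emb_self, sub_self])]
      rw [smul_sub, map_sub, sub_eq_zero, hza, bl_emb_self] at hu
      exact hu
    have hzaN : ∀ u, mt za *ᵥ (u + -N u) = u + N u := fun u => by
      have h := congrArg (bl a) (hzeq (emb a u))
      rw [hzb, mul_smul, mul_smul, hEa, hy'a, smul_add, smul_add, hy'a, hy'b, hEa, hEb] at h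
      simp only [map_add, bl_emb_self, bl_emb_ne hab, add_zero, zero_add, hkB] at h
      exact h
    have hzau : ∀ u, mt za *ᵥ u = u + (N u + N u) := fun u => by
      have hNadd : N (u + N u) = N u := by
        simp only [N, hlinC, Matrix.mulVec_add, hlinB]
        rw [show B (mt k *ᵥ C (B (mt k *ᵥ C u))) = 0 from hNN u, add_zero]
      have h := hzaN (u + N u)
      rwa [hNadd, add_neg_cancel_right, add_assoc] at h
    have hQ : ∀ u, z • emb b u = emb b u := fun u => by
      have h := hzeq (emb b u)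
      simp only [mul_smul, hEa, hEb, hy'a, hy'b, smul_add] at h
      simp only [smul_add, hza, hCB, hkC, map_zero, add_zero, hzau] at h
      have hNB : ∀ v, N (B v) = 0 := fun v => by simp only [N, hkC]; simp [B]
      simp only [hNB, Matrix.mulVec_zero, map_zero, smul_zero, add_zero] at h
      calc z • emb b u = (z • emb b u + (emb a (B (mt k⁻¹ *ᵥ u)) + emb a (B u))) -
            (emb a (B (mt k⁻¹ *ᵥ u)) + emb a (B u)) := by abel
        _ = emb b u := by rw [← add_assoc, h]; abel
    have hcomm := congrArg (fun g : Spg α F => bl a (g • emb b x)) (hzy h⁻¹ (inv_mem hh)).eq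
    have hρab : ∀ (g : SL F) (u : Fin 2 → F), rho a g • emb b u = emb b u := fun g u =>
      rho_fix g (bl_emb_ne hab _)
    have hρaa : ∀ (g : SL F) (u : Fin 2 → F), rho a g • emb a u = emb a (mt g *ᵥ u) := fun g u => by
      rw [rho_apply, smul_emb_base, Pi.mulSingle_eq_same]
    simp only [inv_inv, mul_smul, hEb, smul_add, hρab, hρaa, hQ, hza, map_add, bl_emb_self, bl_emb_ne hab,
      zero_add, hzau, Matrix.mulVec_add, mulVec_inv_cancel] at hcomm
    rw [add_eq_left] at hcomm
    have h2 := congrArg (fun v => mt h *ᵥ v) hcomm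
    simp only [Matrix.mulVec_add, mulVec_cancel_inv, Matrix.mulVec_zero] at h2
    exact neg_eq_self hodd (neg_eq_of_add_eq_zero_left h2)
  have hB0 : ∀ x, B x = 0 := by
    by_contra hno
    push_neg at hno
    obtain ⟨x, hx⟩ := hno
    have hCh : ∀ h ∈ (D.P : Subgroup (SL F)), C (mt h *ᵥ B x) = 0 := fun h hh => by
      by_contra hw
      have hw' : ∀ k ∈ (D.P : Subgroup (SL F)), k * k = negOne F →
          det2 (C (mt h *ᵥ B x)) (mt k *ᵥ C (mt h *ᵥ B x)) = 0 := fun k hkP hk => by
        have e := hform (mt k *ᵥ C (mt h *ᵥ B x)) (mt h *ᵥ B x)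
        rw [key k hkP hk h hh x] at e
        simp only [det2, Pi.zero_apply, zero_mul, mul_zero, sub_self, neg_zero] at e ⊢
        linear_combination -e
      exact irreducible D hodd hw hw (hw' _ D.hi (ii D)) (hw' _ D.hj D.hjj) (hw' _ (ij_mem D) (kk D))
    have hd : ∀ h ∈ (D.P : Subgroup (SL F)), det2 (B x) (mt h *ᵥ B x) = 0 := fun h hh => by
      have e := hform x (mt h *ᵥ B x)
      rw [hCh h hh] at e
      simp only [det2, Pi.zero_apply, zero_mul, mul_zero, sub_self] at e ⊢
      linear_combination e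
    exact irreducible D hodd hx hx (hd _ D.hi) (hd _ D.hj) (hd _ (ij_mem D))
  refine inverted_of_fix hodd hya (fun x => ?_) hm hym
  have hC0 : C x = 0 := by
    refine det2_eq_zero fun z => ?_
    have e := hform z x
    rw [hB0] at e
    simp only [det2, Pi.zero_apply, zero_mul, mul_zero, sub_self, neg_zero] at e ⊢
    linear_combination -e
  rw [hEa, hC0, map_zero, add_zero]

end CfsgLib.PronormalPSp
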