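import Cfsg.Agent.PronormalPSp.Generic

/-!
Overgroups of the base group of quaternion groups are monomial or fuse two planes.
-/

set_option autoImplicit false
set_option linter.unusedSectionVars false

namespace CfsgLib.PronormalPSp

open Matrix CfsgLib.SL2C CfsgLib.Symp CfsgLib.SympSylowTwo CfsgLib.SpFour CfsgLib.Linear.FourGroups
open scoped commutatorElement

variable {F : Type*} [Field F] [Fintype F]
variable {α : Type*} [Fintype α] [DecidableEq α]
variable {D : QData F} {hodd : Odd (Fintype.card F)} {S : Finset α} {M : Subgroup (Spg α F)}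

theorem bl_of_not_mem {g : Spg α F} (hg : g ∈ SpS F S) {e : α} (he : e ∉ S) (v : Vec α F) :
    bl e (g • v) = bl e v := by
  refine sub_eq_zero.1 (det2_eq_zero fun w => ?_)
  have h1 : det2 (bl e (g • v)) w = det2 (bl e v) w := by
    rw [← form_emb_right e w (g • v), ← hg e he w, form_smul_smul, form_emb_right]
  simp only [det2, Pi.sub_apply] at h1 ⊢
  linear_combination h1

/-- Minus one on the planes of `S`. -/
noncomputable def negS (F : Type*) [Field F] [Fintype F] (S : Finset α) : Spg α F :=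
  baseHom fun d => if d ∈ S then negOne F else 1

theorem negS_commute {g : Spg α F} (hg : g ∈ SpS F S) : g * negS F S = negS F S * g := by
  have hz : ∀ d, d ∈ S → ∀ x : Fin 2 → F, negS F S • emb d x = -emb d x := fun d hd x => by
    rw [negS, smul_emb_base, if_pos hd, mulVec_negOne, map_neg]
  have hz' : ∀ d, d ∉ S → ∀ x : Fin 2 → F, negS F S • emb d x = emb d x := fun d hd x => by
    rw [negS, smul_emb_base, if_neg hd, mt_one, Matrix.one_mulVec]
  refine symp_ext_emb fun d x => ?_
  rw [mul_smul, mul_smul]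
  by_cases hd : d ∈ S
  · rw [hz d hd, smul_neg]
    refine bl_ext fun e => ?_
    rw [map_neg, negS, bl_base]
    by_cases he : e ∈ S
    · rw [if_pos he, mulVec_negOne]
    · rw [if_neg he, mt_one, Matrix.one_mulVec, bl_of_not_mem hg he,
        bl_emb_ne (fun h : e = d => he (by rw [h]; exact hd)), neg_zero]
  · rw [hz' d hd, hg d hd, hz' d hd]

theorem negS_singleton (a : α) : negS F {a} = tInv a := by
  rw [negS, tInv, rho_apply]
  congr 1
  funext d
  rcases eq_or_ne d a with rfl | hd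
  · simp
  · simp [hd]

theorem negS_pair {a b : α} (hab : a ≠ b) : negS F {a, b} = tInv a * tInv b := by
  rw [negS, tInv, tInv, rho_apply, rho_apply, ← map_mul]
  congr 1
  funext d
  rcases eq_or_ne d a with rfl | hda
  · simp [hab]
  rcases eq_or_ne d b with rfl | hdb
  · simp [hda]
  · simp [hda, hdb]

theorem tInv_mem_BS (D : QData F) {a : α} (ha : a ∈ S) : tInv (F := F) a ∈ BS D S :=
  rho_mem_BS D ha (negOne_mem D)

theorem mem_of_tInv_mem (hodd : Odd (Fintype.card F)) {e : α} (h : tInv (F := F) e ∈ SpS F S) : e ∈ S := by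
  by_contra he
  have h1 := h e he ![1, 0]
  rw [tInv_fix_iff hodd, bl_emb_self] at h1
  simpa using congrFun h1 0

/-- Two planes: conjugates of reflections are monomial. -/
theorem conj_mem_Mon_two (hS : Sm D) (hM : M ≤ SpS F S) (hB : BS D S ≤ M) (hP : ¬ Pair hodd D M)
    (hC : ∀ c ∈ S, ∀ x ∈ M, x * tInv c = tInv c * x → x ∈ Mon α F) {a b : α} (hab : a ≠ b)
    (hSab : S = {a, b}) {g : Spg α F} (hg : g ∈ M) : g * tInv a * g⁻¹ ∈ Mon α F := by
  have ha : a ∈ S := by simp [hSab]
  have hb : b ∈ S := by simp [hSab]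
  have hzab : negS F S = tInv a * tInv b := by rw [hSab, negS_pair hab]
  have htt : tInv (F := F) a * tInv a = 1 := tInv_sq a
  have huu : tInv (F := F) b * tInv b = 1 := tInv_sq b
  have htu : Commute (tInv (F := F) a) (tInv b) := rho_commute hab _ _
  have htM : tInv a ∈ M := hB (tInv_mem_BS D ha)
  have huM : tInv b ∈ M := hB (tInv_mem_BS D hb)
  have hzM : negS F S ∈ M := hzab ▸ mul_mem htM huM
  have htz : tInv (F := F) a * negS F S = tInv b := by rw [hzab, ← mul_assoc, htt, one_mul]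
  have hcomm : ∀ x ∈ M, x * negS F S = negS F S * x := fun x hx => negS_commute (hM hx)
  refine hC a ha _ (mul_mem (mul_mem hg htM) (inv_mem hg)) ?_
  refine commute_mod_central (isPGroup_BS D S) hB (tInv_mem_BS D ha) htt (tInv_ne_one hodd a) ?_ hzM ?_ ?_ hcomm
    ?_ ?_ hg
  · intro e
    exact tInv_ne_one hodd b (htz ▸ by rw [← e, htt])
  · rw [hzab, mul_assoc, ← mul_assoc (tInv b), ← htu.eq, mul_assoc, huu, mul_one, htt]
  · intro e
    rw [e, mul_one] at htz
    exact hab (tInv_injective hodd htz)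
  · intro x hx hcases
    have hsM : x * tInv a * x⁻¹ ∈ M := mul_mem (mul_mem hx htM) (inv_mem hx)
    have hsMon : x * tInv a * x⁻¹ ∈ Mon α F := by
      rcases hcases with h | h
      · exact hC a ha _ hsM h
      · have hss : x * tInv a * x⁻¹ * (x * tInv a * x⁻¹) = 1 := by
          rw [show x * tInv a * x⁻¹ * (x * tInv a * x⁻¹) = x * (tInv a * tInv a) * x⁻¹ by group, htt, mul_one,
            mul_inv_cancel]
        generalize x * tInv a * x⁻¹ = s at hsM h hss ⊢
        have e2 : s * tInv a = tInv b * s := by rw [h, mul_assoc, hcomm s hsM, ← mul_assoc, htz]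
        have e3 : s * tInv b = tInv a * s := by
          calc s * tInv b = s * (tInv b * s) * s := by rw [mul_assoc, mul_assoc (tInv b), hss, mul_one]
            _ = tInv a * s := by rw [← e2, ← mul_assoc s s, hss, one_mul]
        refine mem_Mon_of_conj hodd fun d => ?_
        by_cases hd : d ∈ S
        · simp only [hSab, Finset.mem_insert, Finset.mem_singleton] at hd
          rcases hd with rfl | rfl
          · exact ⟨b, by rw [e2, mul_inv_cancel_right]⟩
          · exact ⟨a, by rw [e3, mul_inv_cancel_right]⟩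
        · exact ⟨d, commute_tInv_of_not_mem hodd (hM hsM) hd⟩
    obtain ⟨e, he⟩ := swap_lemma D hodd hS hM hB hP hx ha hsMon
    have heS : e ∈ S := mem_of_tInv_mem hodd (he ▸ hM hsM)
    simp only [hSab, Finset.mem_insert, Finset.mem_singleton] at heS
    rcases heS with rfl | rfl
    · exact Or.inl he
    · exact Or.inr (he.trans htz.symm)
  · intro R m hRM hm hpow hAR hder y hy hyt
    have hyu : tInv b * y * tInv b = y⁻¹ := by
      have hti : (tInv (F := F) a) * negS F S = negS F S * tInv a := hcomm _ htM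
      rw [← htz]
      calc tInv a * negS F S * y * (tInv a * negS F S)
          = negS F S * (tInv a * y * tInv a) * negS F S := by rw [hti]; nth_rewrite 2 [← hti]; group
        _ = y⁻¹ := by
          have hy' := hcomm y⁻¹ (inv_mem (hRM hy))
          rw [hyt, ← hy', mul_assoc, show negS F S * negS F S = 1 by
            rw [hzab, mul_assoc, ← mul_assoc (tInv b), ← htu.eq, mul_assoc, huu, mul_one, htt], mul_one]
    have hderu : ∀ w ∈ ⁅R, R⁆, w * tInv b = tInv b * w := fun w hw => by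
      have hwM : w ∈ M := hRM ((Subgroup.commutator_le.2 fun p hp q hq => by
        rw [commutatorElement_def]
        exact mul_mem (mul_mem (mul_mem hp hq) (inv_mem hp)) (inv_mem hq)) hw)
      rw [← htz, ← mul_assoc, hder w hw, mul_assoc, hcomm w hwM, mul_assoc]
    have hcm : ∀ c ∈ S, ∀ k ∈ (D.P : Subgroup (SL F)),
        (y * (rho c k * y * rho c k⁻¹)) * ((rho c k * y * rho c k⁻¹) * y)⁻¹ ∈ ⁅R, R⁆ := fun c hc k hk => by
      rw [← mul_comm_inv_eq]
      refine Subgroup.commutator_mem_commutator hy ?_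
      rw [map_inv]
      exact conj_mem_of_normalizer (hAR (rho_mem_BS D hc hk)) hy
    have hnorm : ∀ p, p ∈ Subgroup.normalizer (R : Set (Spg α F)) → ∀ q ∈ ⁅R, R⁆, p * q * p⁻¹ ∈ ⁅R, R⁆ :=
      fun p hp q hq => by
        refine conj_mem_of_normalizer (CfsgLib.Pronormal.mem_normalizer_of_map_conj ?_) hq
        rw [Subgroup.map_commutator, CfsgLib.Pronormal.map_conj_of_mem_normalizer hp]
    have h1a := scalar_eq_one hodd hyt hm (hpow y hy) (ii D) (hder _ (hcm a ha _ D.hi))
    have h1b := scalar_eq_one hodd hyu hm (hpow y hy) (ii D) (hderu _ (hcm b hb _ D.hi))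
    refine inverted_eq_one_two hodd D hab (hSab ▸ hM (hRM hy)) hm (hpow y hy) hyt hyu h1a h1b ?_
    rintro k hk w rfl
    refine ⟨hder _ (hcm b hb k hk), fun h hh => ?_⟩
    have hwh := hnorm _ (hAR (rho_mem_BS D ha hh)) _ (hcm b hb k hk)
    rw [← map_inv] at hwh
    exact commute_of_inverted hm (hpow y hy) htt hyt (hder _ hwh)
      (hder _ (hnorm y (Subgroup.le_normalizer hy) _ hwh))

/-- A reflection is isolated in a subgroup fixing a space of codimension four, unless monomial. -/
theorem isolated_big (hS : Sm D) (hM : M ≤ SpS F S) (hB : BS D S ≤ M) (hP : ¬ Pair hodd D M)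
    (hC : ∀ c ∈ S, ∀ x ∈ M, x * tInv c = tInv c * x → x ∈ Mon α F) (hcard : 3 ≤ S.card) {a : α}
    (ha : a ∈ S) {g : Spg α F} (hgM : g * tInv a * g⁻¹ ∈ M) (hno : g * tInv a * g⁻¹ ∉ Mon α F)
    (L : Subgroup (Spg α F)) (hLM : L ≤ M) (htL : tInv a ∈ L)
    (hfix : ∀ x ∈ L, ∀ v : Vec α F, bl a v = 0 → bl a (g⁻¹ • v) = 0 → x • v = v) :
    Cfsg.IsIsolatedInvolution (⟨tInv a, htL⟩ : L) := by
  refine ⟨?_, ?_⟩
  · rw [← Subgroup.orderOf_coe]; exact orderOf_tInv hodd a
  rintro ⟨x, hx⟩ hcm
  have hxc : x * tInv a * x⁻¹ * tInv a = tInv a * (x * tInv a * x⁻¹) := (congrArg Subtype.val hcm.eq).symm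
  have hxM : x ∈ M := hLM hx
  have hsL : x * tInv a * x⁻¹ ∈ L := L.mul_mem (L.mul_mem hx htL) (L.inv_mem hx)
  obtain ⟨e, he⟩ := swap_lemma D hodd hS hM hB hP hxM ha (hC a ha _ (hLM hsL) hxc)
  rcases eq_or_ne e a with rfl | hea
  · exact Subtype.ext he
  exfalso
  rw [he] at hsL
  let φ : Vec α F →ₗ[F] (Fin 2 → F) × (Fin 2 → F) :=
    (bl a).prod ((bl a).comp (Matrix.mulVecLin (g⁻¹ : Spg α F).1))
  let ψ : Vec α F →ₗ[F] (Fin 2 → F) × (Fin 2 → F) := (bl a).prod (bl e)
  have hφ : ∀ v : Vec α F, φ v = (bl a v, bl a (g⁻¹ • v)) := fun v => rfl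
  have hψv : ∀ v : Vec α F, ψ v = (bl a v, bl e v) := fun v => rfl
  have hker : LinearMap.ker φ ≤ LinearMap.ker ψ := fun v hv => by
    rw [LinearMap.mem_ker, hφ, Prod.mk_eq_zero] at hv
    rw [LinearMap.mem_ker, hψv, Prod.mk_eq_zero]
    exact ⟨hv.1, (tInv_fix_iff hodd).1 (hfix _ hsL v hv.1 hv.2)⟩
  have hψ : Function.Surjective ψ := fun p => ⟨emb a p.1 + emb e p.2, by
    rw [hψv, map_add, map_add, bl_emb_self, bl_emb_self, bl_emb_ne hea.symm, bl_emb_ne hea, add_zero, zero_add]⟩
  have heq : LinearMap.ker φ = LinearMap.ker ψ := by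
    refine Submodule.eq_of_le_of_finrank_le hker ?_
    have h1 := φ.finrank_range_add_finrank_ker
    have h2 := ψ.finrank_range_add_finrank_ker
    rw [LinearMap.range_eq_top.2 hψ, finrank_top] at h2
    have h3 := Submodule.finrank_le (LinearMap.range φ)
    omega
  obtain ⟨c, hc, hcae⟩ := Finset.exists_mem_notMem_of_card_lt_card (s := ({a, e} : Finset α)) (t := S)
    (lt_of_le_of_lt Finset.card_le_two hcard)
  simp only [Finset.mem_insert, Finset.mem_singleton, not_or] at hcae
  refine hno (hC c hc _ hgM (commute_tInv_of_fix hodd fun w => ?_))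
  have hw : emb c w ∈ LinearMap.ker φ := by
    rw [heq, LinearMap.mem_ker, hψv, bl_emb_ne (Ne.symm hcae.1), bl_emb_ne (Ne.symm hcae.2)]
    rfl
  rw [LinearMap.mem_ker, hφ, Prod.mk_eq_zero] at hw
  rw [mul_smul, mul_smul, (tInv_fix_iff hodd).2 hw.2, smul_inv_smul]

/-- At least three planes: conjugates of reflections are monomial. -/
theorem conj_mem_Mon_big (hS : Sm D) (hM : M ≤ SpS F S) (hB : BS D S ≤ M) (hP : ¬ Pair hodd D M)
    (hC : ∀ c ∈ S, ∀ x ∈ M, x * tInv c = tInv c * x → x ∈ Mon α F) (hcard : 3 ≤ S.card) {a : α}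
    (ha : a ∈ S) {g : Spg α F} (hg : g ∈ M) : g * tInv a * g⁻¹ ∈ Mon α F := by
  obtain ⟨A, hA⟩ : ∃ A, A = (D.P : Subgroup (SL F)).map (rho (α := α) a) := ⟨_, rfl⟩
  have hmem : ∀ h ∈ (D.P : Subgroup (SL F)), rho a h ∈ A := fun h hh => hA ▸ ⟨h, hh, rfl⟩
  have hAp : IsPGroup 2 A := hA ▸ D.P.2.map _
  have hA' : ∀ x ∈ A, ∃ h ∈ (D.P : Subgroup (SL F)), rho a h = x := fun x hx => by rw [hA] at hx; exact hx
  obtain ⟨L, hL⟩ : ∃ L, L = A ⊔ A.map (MulAut.conj g).toMonoidHom := ⟨_, rfl⟩
  have hAL : A ≤ L := hL ▸ le_sup_left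
  have hA1M : A ≤ M := fun x hx => by
    obtain ⟨h, hh, rfl⟩ := hA' x hx
    exact hB (rho_mem_BS D ha hh)
  have hLM : L ≤ M := hL ▸ sup_le hA1M (by
    rintro _ ⟨x, hx, rfl⟩; exact mul_mem (mul_mem hg (hA1M hx)) (inv_mem hg))
  have htA : tInv a ∈ A := hmem _ (negOne_mem D)
  have hsL : g * tInv a * g⁻¹ ∈ L := hL ▸ Subgroup.mem_sup_right ⟨tInv a, htA, rfl⟩
  have hfix : ∀ x ∈ L, ∀ v : Vec α F, bl a v = 0 → bl a (g⁻¹ • v) = 0 → x • v = v := fun x hx v h1 h2 => by
    have hle : L ≤ MulAction.stabilizer (Spg α F) v := hL ▸ sup_le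
      (fun u hu => by obtain ⟨h, -, rfl⟩ := hA' u hu; exact rho_fix h h1)
      (by
        rintro _ ⟨u, hu, rfl⟩
        obtain ⟨h, -, rfl⟩ := hA' u hu
        show (g * rho a h * g⁻¹) • v = v
        rw [mul_smul, mul_smul, rho_fix h h2, smul_inv_smul])
    exact hle hx
  by_contra hno
  have hss : g * tInv a * g⁻¹ * (g * tInv a * g⁻¹) = 1 := by
    rw [show g * tInv a * g⁻¹ * (g * tInv a * g⁻¹) = g * (tInv a * tInv a) * g⁻¹ by group, tInv_sq, mul_one,
      mul_inv_cancel]
  refine hno (hC a ha _ (hLM hsL) (commute_of_isolated hAp hAL htA (tInv_sq a) hsL hss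
    (isolated_big hS hM hB hP hC hcard ha (hLM hsL) hno L hLM (hAL htA) hfix) ?_))
  intro R m hRL hm hpow hAR hder y hy hyt
  refine inverted_eq_one_big hodd hM hB hC ha hcard (hLM (hRL hy)) hm (hpow y hy) hyt ?_
  refine hder _ ?_
  rw [← mul_comm_inv_eq]
  refine Subgroup.commutator_mem_commutator hy ?_
  rw [map_inv]
  exact conj_mem_of_normalizer (hAR (hmem _ D.hi)) hy

/-- Overgroups of the base group are monomial, or fuse two planes. -/
theorem loc (hS : Sm D) : ∀ S : Finset α, Loc hodd D S := by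
  intro S
  induction S using Finset.strongInduction with
  | H S ih =>
    intro M hM hB hP g hg
    have hC : ∀ c ∈ S, ∀ x ∈ M, x * tInv c = tInv c * x → x ∈ Mon α F := fun c hc x hx hxt =>
      centralizer_le_Mon (fun a ha => ih _ (Finset.erase_ssubset ha)) hM hB hP hc hx hxt
    refine mem_Mon_of_conj hodd fun a => ?_
    by_cases ha : a ∈ S
    · refine swap_lemma D hodd hS hM hB hP hg ha ?_
      rcases Nat.lt_or_ge S.card 3 with hlt | hge
      · rcases (show S.card = 1 ∨ S.card = 2 by have := Finset.card_pos.2 ⟨a, ha⟩; omega) with h1 | h2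
        · obtain ⟨b, rfl⟩ := Finset.card_eq_one.1 h1
          obtain rfl := Finset.mem_singleton.1 ha
          rw [← negS_singleton, negS_commute (hM hg), mul_inv_cancel_right, negS_singleton]
          exact rho_mem_Mon _ _
        · obtain ⟨x, y, hxy, rfl⟩ := Finset.card_eq_two.1 h2
          rcases Finset.mem_insert.1 ha with rfl | h
          · exact conj_mem_Mon_two hS hM hB hP hC hxy rfl hg
          · obtain rfl := Finset.mem_singleton.1 h
            exact conj_mem_Mon_two hS hM hB hP hC hxy.symm (Finset.pair_comm _ _) hg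
      · exact conj_mem_Mon_big hS hM hB hP hC hge ha hg
    · exact ⟨a, commute_tInv_of_not_mem hodd (hM hg) ha⟩

end CfsgLib.PronormalPSp
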