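import Cfsg.Agent.PronormalPSp.Basic
import Cfsg.Agent.Classical.PSpFourFusion
import Cfsg.Agent.Pronormal.Extension

/-!
The normaliser of a quaternion Sylow 2-subgroup of `SL₂(q)` of order 8, and two matrix facts.
-/

set_option autoImplicit false
set_option linter.unusedSectionVars false

namespace CfsgLib.PronormalPSp

open Matrix CfsgLib.SL2C CfsgLib.SpFour CfsgLib.Linear.FourGroups

variable {F : Type*} [Field F] [Fintype F] (D : QData F)

/-- The Sylow subgroup has order 8: its elements are listed. -/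
def Sm : Prop :=
  ∀ x ∈ (D.P : Subgroup (SL F)), x = 1 ∨ x = negOne F ∨ x = D.i ∨ x = negOne F * D.i ∨ x = D.j ∨
    x = negOne F * D.j ∨ x = D.i * D.j ∨ x = negOne F * (D.i * D.j)

/-- A group element sending the subgroup into itself normalises it. -/
theorem mem_normalizer_of_fin {G : Type*} [Group G] [Finite G] {K : Subgroup G} {x : G}
    (h : ∀ y ∈ K, x * y * x⁻¹ ∈ K) : x ∈ Subgroup.normalizer (K : Set G) :=
  CfsgLib.Pronormal.mem_normalizer_of_map_conj (Subgroup.eq_of_le_of_card_ge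
    (by rintro _ ⟨y, hy, rfl⟩; exact h y hy)
    (by rw [Subgroup.card_map_of_injective (MulAut.conj x).injective]))

theorem conj_mem_of_normalizer {G : Type*} [Group G] {K : Subgroup G} {x y : G}
    (hx : x ∈ Subgroup.normalizer (K : Set G)) (hy : y ∈ K) : x * y * x⁻¹ ∈ K :=
  (Subgroup.mem_normalizer_iff.1 hx y).1 hy

/-- A `p`-element normalising a Sylow subgroup lies in it. -/
theorem mem_sylow_of_pow {G : Type*} [Group G] [Finite G] {p : ℕ} [Fact p.Prime] (P : Sylow p G) {x : G}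
    (hx : x ∈ Subgroup.normalizer ((P : Subgroup G) : Set G)) {k : ℕ} (hk : x ^ p ^ k = 1) :
    x ∈ (P : Subgroup G) := by
  have hz : IsPGroup p (Subgroup.zpowers x) := by
    obtain ⟨l, -, hl⟩ := (Nat.dvd_prime_pow Fact.out).1 (orderOf_dvd_of_pow_eq_one hk)
    exact IsPGroup.of_card (n := l) (by rw [Nat.card_zpowers, hl])
  have h1 := hz.to_sup_of_normal_right' P.2 (Subgroup.zpowers_le.2 hx)
  have h2 := P.3 h1 le_sup_right
  exact h2 ▸ (Subgroup.mem_sup_left (Subgroup.mem_zpowers x) : x ∈ Subgroup.zpowers x ⊔ (P : Subgroup G))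

theorem ij_mem : D.i * D.j ∈ (D.P : Subgroup (SL F)) := mul_mem D.hi D.hj

theorem Pm.self (x : SL F) : Pm x x := Or.inl rfl

theorem tEl_conj_ij (hodd : Odd (Fintype.card F)) :
    tEl D hodd * (D.i * D.j) * (tEl D hodd)⁻¹ = D.i := by
  calc tEl D hodd * (D.i * D.j) * (tEl D hodd)⁻¹ =
        (tEl D hodd * D.i * (tEl D hodd)⁻¹) * (tEl D hodd * D.j * (tEl D hodd)⁻¹) := by group
    _ = D.j * D.i * D.j := by rw [(tEl_conj D hodd).1, (tEl_conj D hodd).2, mul_assoc]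
    _ = negOne F * D.i * (D.j * D.j) := by rw [D.hji]; simp only [mul_assoc]
    _ = D.i := by rw [D.hjj, negOne_comm, mul_assoc, negOne_sq, mul_one]

theorem mt_ii : mt D.i * mt D.i = -1 := by rw [← mt_mul, ii D, mt_negOne]

theorem mt_jj : mt D.j * mt D.j = -1 := by rw [← mt_mul, D.hjj, mt_negOne]

theorem mt_ji : mt D.j * mt D.i = -(mt D.i * mt D.j) := by
  rw [← mt_mul, ← mt_mul, D.hji, mt_mul, mt_negOne, neg_one_mul]

/-- The quaternion generators have no common eigenvector, even up to a fixed second vector. -/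
theorem irreducible (hodd : Odd (Fintype.card F)) {u u' : Fin 2 → F} (hu : u ≠ 0) (hu' : u' ≠ 0)
    (hi : det2 u' (mt D.i *ᵥ u) = 0) (hj : det2 u' (mt D.j *ᵥ u) = 0)
    (hk : det2 u' (mt (D.i * D.j) *ᵥ u) = 0) : False := by
  have h2 : (2 : F) ≠ 0 := two_ne_zero_of_odd hodd
  obtain ⟨a, ha⟩ := eq_smul_of_det2 hu' hi
  obtain ⟨b, hb⟩ := eq_smul_of_det2 hu' hj
  obtain ⟨c, hc⟩ := eq_smul_of_det2 hu' hk
  have hii : ∀ v : Fin 2 → F, mt D.i *ᵥ (mt D.i *ᵥ v) = -v := fun v => by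
    rw [Matrix.mulVec_mulVec, mt_ii, Matrix.neg_mulVec, Matrix.one_mulVec]
  have hjj : ∀ v : Fin 2 → F, mt D.j *ᵥ (mt D.j *ᵥ v) = -v := fun v => by
    rw [Matrix.mulVec_mulVec, mt_jj, Matrix.neg_mulVec, Matrix.one_mulVec]
  have hji : ∀ v : Fin 2 → F, mt D.j *ᵥ (mt D.i *ᵥ v) = -(mt D.i *ᵥ (mt D.j *ᵥ v)) := fun v => by
    rw [Matrix.mulVec_mulVec, mt_ji, Matrix.neg_mulVec, Matrix.mulVec_mulVec]
  have ha0 : a ≠ 0 := fun e => hu (by
    have h := hii u
    rw [ha, e, zero_smul, Matrix.mulVec_zero] at h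
    exact neg_eq_zero.1 h.symm)
  have hb0 : b ≠ 0 := fun e => hu (by
    have h := hjj u
    rw [hb, e, zero_smul, Matrix.mulVec_zero] at h
    exact neg_eq_zero.1 h.symm)
  -- `u'` is a multiple of `mt i u`, so `u` is an eigenvector
  have hu'' : u' = a⁻¹ • (mt D.i *ᵥ u) := by rw [ha, smul_smul, inv_mul_cancel₀ ha0, one_smul]
  have hju : mt D.j *ᵥ u = (b * a⁻¹) • (mt D.i *ᵥ u) := by rw [hb, hu'', smul_smul]
  have hr : b * a⁻¹ ≠ 0 := mul_ne_zero hb0 (inv_ne_zero ha0)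
  have hku : mt (D.i * D.j) *ᵥ u = -((b * a⁻¹) • u) := by
    rw [mt_mul, ← Matrix.mulVec_mulVec, hju, Matrix.mulVec_smul, hii, smul_neg]
  rw [hu'', smul_smul] at hc
  rw [hku] at hc
  have hiu : mt D.i *ᵥ u = ((b * a⁻¹)⁻¹ * (c * a⁻¹)) • u := by
    have h := congrArg (fun v => mt D.i *ᵥ v) hc
    simp only [Matrix.mulVec_neg, Matrix.mulVec_smul, hii, smul_neg, neg_inj] at h
    rw [mul_smul, ← h, smul_smul, inv_mul_cancel₀ hr, one_smul]
  set s := (b * a⁻¹)⁻¹ * (c * a⁻¹) with hs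
  have hju' : mt D.j *ᵥ u = ((b * a⁻¹) * s) • u := by rw [hju, hiu, smul_smul]
  have h := hji u
  rw [hiu, hju', Matrix.mulVec_smul, Matrix.mulVec_smul, hiu, hju', smul_smul, smul_smul] at h
  have h' : (2 * (b * a⁻¹) * s * s) • u = 0 := by
    rw [show 2 * (b * a⁻¹) * s * s = s * ((b * a⁻¹) * s) + (b * a⁻¹) * s * s by ring, add_smul, h]
    simp
  have hs0 : s ≠ 0 := fun e => hu (by
    have h := hii u
    rw [hiu, e, zero_smul, Matrix.mulVec_zero] at h
    exact neg_eq_zero.1 h.symm)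
  rcases smul_eq_zero.1 h' with e | e
  · exact mul_ne_zero (mul_ne_zero (mul_ne_zero h2 hr) hs0) hs0 e
  · exact hu e

/-- The product identity behind the swap lemma. -/
theorem swap_ring {R : Type*} [Ring R] {a b : R} (ha : a * a = -1) (hb : b * b = -1)
    (hba : b * a = -(a * b)) :
    (1 + a) * (1 + b) * ((1 + a) * b * (1 + b * a) + (1 - a) * (1 - b * a)) =
        (8 : ℕ) • (a * b) ∧
      (1 + a) * b * (1 - b * a) + (1 - a) * (1 + b * a) = 0 ∧
      (1 - a) * b * (1 + b * a) + (1 + a) * (1 - b * a) = 0 ∧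
      (1 + a) * (1 + b) * ((1 - a) * b * (1 - b * a) + (1 + a) * (1 + b * a)) = (8 : ℕ) • b := by
  have ha' : ∀ x, a * (a * x) = -x := fun x => by rw [← mul_assoc, ha, neg_one_mul]
  have hb' : ∀ x, b * (b * x) = -x := fun x => by rw [← mul_assoc, hb, neg_one_mul]
  have hba' : ∀ x, b * (a * x) = -(a * (b * x)) := fun x => by rw [← mul_assoc, hba, neg_mul, mul_assoc]
  refine ⟨?_, ?_, ?_, ?_⟩ <;>
    simp only [add_mul, mul_add, sub_mul, mul_sub, one_mul, mul_one, mul_assoc, ha, hb, hba, ha', hb', hba',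
      mul_neg, neg_mul, neg_neg] <;> abel

variable {D} (hodd : Odd (Fintype.card F)) (hS : Sm D)
include hodd hS

theorem classes {x : SL F} (hx : x ∈ (D.P : Subgroup (SL F))) (h : x * x = negOne F) :
    Pm D.i x ∨ Pm D.j x ∨ Pm (D.i * D.j) x := by
  rcases hS x hx with e | e | e | e | e | e | e | e
  · rw [e, one_mul] at h; exact absurd h.symm (negOne_ne_one hodd)
  · rw [e, negOne_sq] at h; exact absurd h.symm (negOne_ne_one hodd)
  · exact Or.inl (Or.inl e)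
  · exact Or.inl (Or.inr e)
  · exact Or.inr (Or.inl (Or.inl e))
  · exact Or.inr (Or.inl (Or.inr e))
  · exact Or.inr (Or.inr (Or.inl e))
  · exact Or.inr (Or.inr (Or.inr e))

theorem tEl_mem_normalizer : tEl D hodd ∈ Subgroup.normalizer ((D.P : Subgroup (SL F)) : Set (SL F)) := by
  refine mem_normalizer_of_fin fun x hx => ?_
  have hN : tEl D hodd * negOne F * (tEl D hodd)⁻¹ = negOne F := by
    rw [← negOne_comm, mul_inv_cancel_right]
  have hm : ∀ a b : SL F, tEl D hodd * (a * b) * (tEl D hodd)⁻¹ =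
      (tEl D hodd * a * (tEl D hodd)⁻¹) * (tEl D hodd * b * (tEl D hodd)⁻¹) := fun a b => by group
  obtain ⟨h1, h2⟩ := tEl_conj D hodd
  have h3 := tEl_conj_ij D hodd
  have hn := negOne_mem D
  rcases hS x hx with e | e | e | e | e | e | e | e <;> rw [e]
  · simp [one_mem]
  · rwa [hN]
  · rw [h1]; exact D.hj
  · rw [hm, hN, h1]; exact mul_mem hn D.hj
  · rw [h2]; exact ij_mem D
  · rw [hm, hN, h2]; exact mul_mem hn (ij_mem D)
  · rw [h3]; exact D.hi
  · rw [hm (negOne F), hN, h3]; exact mul_mem hn D.hi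

theorem tEl_cube : tEl D hodd ^ 3 ∈ (D.P : Subgroup (SL F)) := by
  obtain ⟨h1, h2⟩ := tEl_conj D hodd
  have h3 := tEl_conj_ij D hodd
  have e : ∀ (t x y z w : SL F), t * x * t⁻¹ = y → t * y * t⁻¹ = z → t * z * t⁻¹ = w →
      t ^ 3 * x * (t ^ 3)⁻¹ = w := by
    intro t x y z w hx hy hz
    rw [← hz, ← hy, ← hx, pow_succ, pow_two]
    group
  have hc : ∀ x, tEl D hodd ^ 3 * x * (tEl D hodd ^ 3)⁻¹ = x →
      mt (tEl D hodd ^ 3) * mt x = mt x * mt (tEl D hodd ^ 3) := fun x hx => by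
    rw [← mt_mul, ← mt_mul, mul_inv_eq_iff_eq_mul.1 hx]
  rcases scalar_of_commute D hodd _ (hc _ (e _ _ _ _ _ h1 h2 h3)) (hc _ (e _ _ _ _ _ h2 h3 h1)) with h | h <;>
    rw [h]
  · exact one_mem _
  · exact negOne_mem D

theorem mem_of_fix_class {y : SL F} (hy : y ∈ Subgroup.normalizer ((D.P : Subgroup (SL F)) : Set (SL F)))
    (hi : Pm D.i (y * D.i * y⁻¹)) : y ∈ (D.P : Subgroup (SL F)) := by
  have : Fact (Nat.Prime 2) := ⟨Nat.prime_two⟩
  obtain ⟨k, m, hm, hkm⟩ := Nat.exists_eq_two_pow_mul_odd (n := orderOf y) (orderOf_pos y).ne'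
  refine mem_sylow_of_pow D.P hy (k := k) ?_
  set a := y ^ 2 ^ k with ha
  have ham : a ^ m = 1 := by rw [ha, ← pow_mul, ← hkm, pow_orderOf_eq_one]
  have hao : Odd (orderOf a) := hm.of_dvd_nat (orderOf_dvd_of_pow_eq_one ham)
  have haN : a ∈ Subgroup.normalizer ((D.P : Subgroup (SL F)) : Set (SL F)) := pow_mem hy _
  have hai : Pm D.i (a * D.i * a⁻¹) := by
    have : ∀ n : ℕ, Pm D.i (y ^ n * D.i * (y ^ n)⁻¹) := by
      intro n
      induction n with
      | zero => simpa using Pm.self D.i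
      | succ n ih =>
        have h := hi.trans (ih.conj y)
        rwa [show y * (y ^ n * D.i * (y ^ n)⁻¹) * y⁻¹ = y ^ (n + 1) * D.i * (y ^ (n + 1))⁻¹ by
          rw [pow_succ']; group] at h
    exact this _
  have hsq : ∀ x : SL F, x * x = negOne F → a * x * a⁻¹ * (a * x * a⁻¹) = negOne F := fun x hx => by
    rw [show a * x * a⁻¹ * (a * x * a⁻¹) = a * (x * x) * a⁻¹ by group, hx, ← negOne_comm,
      mul_inv_cancel_right]
  obtain ⟨hne1, hne2, hne3⟩ := not_pm_ij D hodd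
  have haj : Pm D.j (a * D.j * a⁻¹) := by
    rcases classes hodd hS (conj_mem_of_normalizer haN D.hj) (hsq _ D.hjj) with h | h | h
    · have h' := (hai.symm.trans h).conj a⁻¹
      simp only [mul_assoc, inv_mul_cancel, inv_inv, mul_one, inv_mul_cancel_left] at h'
      exact absurd h' hne1
    · exact h
    · have h' : Pm D.j (a * (D.i * D.j) * a⁻¹) := by
        have h'' : Pm D.j (D.i * (D.i * D.j)) := Or.inr (by rw [← mul_assoc, ii D])
        have := h''.trans (Pm.mul hai h)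
        rwa [show a * D.i * a⁻¹ * (a * D.j * a⁻¹) = a * (D.i * D.j) * a⁻¹ by group] at this
      exact absurd (odd_swap (x := D.j) (y := D.i * D.j) hao h h').symm hne3
  have hex : ∀ x, Pm x (a * x * a⁻¹) → a ^ 2 * x * (a ^ 2)⁻¹ = x := by
    intro x h
    rw [show a ^ 2 * x * (a ^ 2)⁻¹ = a * (a * x * a⁻¹) * a⁻¹ by rw [pow_two]; group]
    rcases h with h | h
    · rw [h, h]
    · rw [h, show a * (negOne F * x) * a⁻¹ = negOne F * (a * x * a⁻¹) by
        rw [← mul_assoc a, ← negOne_comm a]; simp only [mul_assoc], h, ← mul_assoc, negOne_sq, one_mul]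
  have hc : ∀ x, a ^ 2 * x * (a ^ 2)⁻¹ = x → mt (a ^ 2) * mt x = mt x * mt (a ^ 2) := fun x hx => by
    rw [← mt_mul, ← mt_mul, mul_inv_eq_iff_eq_mul.1 hx]
  obtain ⟨r, hr⟩ := hm
  have ha2 : a ^ 2 = 1 := by
    rcases scalar_of_commute D hodd _ (hc _ (hex _ hai)) (hc _ (hex _ haj)) with h | h
    · exact h
    · exfalso
      have h1 : (a ^ 2) ^ m = 1 := by rw [← pow_mul, mul_comm, pow_mul, ham, one_pow]
      rw [h, hr, pow_succ, pow_mul, pow_two, negOne_sq, one_pow, one_mul] at h1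
      exact negOne_ne_one hodd h1
  rw [hr, pow_succ, pow_mul, ha2, one_pow, one_mul] at ham
  exact ham

theorem exists_tEl_pow {x : SL F} (hx : x ∈ Subgroup.normalizer ((D.P : Subgroup (SL F)) : Set (SL F))) :
    ∃ (e : ℕ) (p : SL F), e < 3 ∧ p ∈ (D.P : Subgroup (SL F)) ∧ x = tEl D hodd ^ e * p := by
  obtain ⟨h1, h2⟩ := tEl_conj D hodd
  have hsq : x * D.i * x⁻¹ * (x * D.i * x⁻¹) = negOne F := by
    rw [show x * D.i * x⁻¹ * (x * D.i * x⁻¹) = x * (D.i * D.i) * x⁻¹ by group, ii D, ← negOne_comm,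
      mul_inv_cancel_right]
  have key : ∀ e : ℕ, e < 3 → Pm (tEl D hodd ^ e * D.i * (tEl D hodd ^ e)⁻¹) (x * D.i * x⁻¹) →
      ∃ (e : ℕ) (p : SL F), e < 3 ∧ p ∈ (D.P : Subgroup (SL F)) ∧ x = tEl D hodd ^ e * p := by
    intro e he h
    refine ⟨e, (tEl D hodd ^ e)⁻¹ * x, he, mem_of_fix_class hodd hS ?_ ?_, (mul_inv_cancel_left _ _).symm⟩
    · exact mul_mem (inv_mem (pow_mem (tEl_mem_normalizer hodd hS) _)) hx
    · have h' := h.conj (tEl D hodd ^ e)⁻¹
      rw [show (tEl D hodd ^ e)⁻¹ * (tEl D hodd ^ e * D.i * (tEl D hodd ^ e)⁻¹) * (tEl D hodd ^ e)⁻¹⁻¹ = D.i by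
        group] at h'
      rwa [show (tEl D hodd ^ e)⁻¹ * (x * D.i * x⁻¹) * (tEl D hodd ^ e)⁻¹⁻¹ =
        (tEl D hodd ^ e)⁻¹ * x * D.i * ((tEl D hodd ^ e)⁻¹ * x)⁻¹ by group] at h'
  rcases classes hodd hS (conj_mem_of_normalizer hx D.hi) hsq with h | h | h
  · exact key 0 (by norm_num) (by simpa using h)
  · exact key 1 (by norm_num) (by rw [pow_one, h1]; exact h)
  · exact key 2 (by norm_num) (by
      rw [show tEl D hodd ^ 2 * D.i * (tEl D hodd ^ 2)⁻¹ =
        tEl D hodd * (tEl D hodd * D.i * (tEl D hodd)⁻¹) * (tEl D hodd)⁻¹ by rw [pow_two]; group, h1, h2]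
      exact h)

theorem comm_mem {a b : SL F} (ha : a ∈ Subgroup.normalizer ((D.P : Subgroup (SL F)) : Set (SL F)))
    (hb : b ∈ Subgroup.normalizer ((D.P : Subgroup (SL F)) : Set (SL F))) :
    a * b * a⁻¹ * b⁻¹ ∈ (D.P : Subgroup (SL F)) := by
  obtain ⟨e, p, -, hp, rfl⟩ := exists_tEl_pow hodd hS ha
  obtain ⟨f, q, -, hq, rfl⟩ := exists_tEl_pow hodd hS hb
  set t := tEl D hodd
  have ht : ∀ n : ℕ, ∀ r ∈ (D.P : Subgroup (SL F)), t ^ n * r * (t ^ n)⁻¹ ∈ (D.P : Subgroup (SL F)) := fun n r hr =>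
    conj_mem_of_normalizer (pow_mem (tEl_mem_normalizer hodd hS) n) hr
  have ht' : ∀ n : ℕ, ∀ r ∈ (D.P : Subgroup (SL F)), (t ^ n)⁻¹ * r * t ^ n ∈ (D.P : Subgroup (SL F)) :=
    fun n r hr => by
      have := conj_mem_of_normalizer (inv_mem (pow_mem (tEl_mem_normalizer hodd hS) n)) hr
      rwa [inv_inv] at this
  have hrr : (t ^ f)⁻¹ * p * t ^ f * q * ((t ^ e)⁻¹ * q * t ^ e * p)⁻¹ ∈ (D.P : Subgroup (SL F)) :=
    mul_mem (mul_mem (ht' f p hp) hq) (inv_mem (mul_mem (ht' e q hq) hp))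
  have h := ht (e + f) _ hrr
  have ha : t ^ e * p * (t ^ f * q) = t ^ (e + f) * ((t ^ f)⁻¹ * p * t ^ f * q) := by
    rw [pow_add]; group
  have hb : t ^ f * q * (t ^ e * p) = t ^ (e + f) * ((t ^ e)⁻¹ * q * t ^ e * p) := by
    rw [add_comm, pow_add]; group
  rw [show t ^ e * p * (t ^ f * q) * (t ^ e * p)⁻¹ * (t ^ f * q)⁻¹ =
    (t ^ e * p * (t ^ f * q)) * (t ^ f * q * (t ^ e * p))⁻¹ by group, ha, hb,
    show ∀ u v w : SL F, u * v * (u * w)⁻¹ = u * (v * w⁻¹) * u⁻¹ from fun u v w => by group]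
  exact h

theorem tEl_mem_of_mem {K : Subgroup (SL F)} (hK : (D.P : Subgroup (SL F)) ≤ K) {x : SL F}
    (hx : x ∈ Subgroup.normalizer ((D.P : Subgroup (SL F)) : Set (SL F)))
    (hxP : x ∉ (D.P : Subgroup (SL F))) (hxK : x ∈ K) : tEl D hodd ∈ K := by
  obtain ⟨e, p, he, hp, rfl⟩ := exists_tEl_pow hodd hS hx
  have h1 : tEl D hodd ^ e ∈ K := by
    simpa using mul_mem hxK (inv_mem (hK hp))
  interval_cases e
  · simp [hp] at hxP
  · simpa using h1
  · have h3 := hK (tEl_cube hodd hS)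
    rw [pow_succ] at h3
    exact (K.mul_mem_cancel_left h1).1 h3

end CfsgLib.PronormalPSp
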