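import Cfsg.Agent.PronormalPSp.Quat

/-!
Symplectic elements supported on a set of planes; 2-subgroups containing the base group are monomial.
-/

set_option autoImplicit false
set_option linter.unusedSectionVars false

namespace CfsgLib.PronormalPSp

open Matrix CfsgLib.SL2C CfsgLib.Symp CfsgLib.SympSylowTwo CfsgLib.SpFour

variable {F : Type*} [Field F]
variable {α : Type*} [Fintype α] [DecidableEq α]

theorem mt_ext {A B : Matrix (Fin 2) (Fin 2) F} (h : ∀ x, A *ᵥ x = B *ᵥ x) : A = B :=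
  Matrix.ext fun i j => by simpa using congrFun (h (Pi.single j 1)) i

theorem SL_ext {g k : SL F} (h : ∀ x, mt g *ᵥ x = mt k *ᵥ x) : g = k :=
  mt_injective (mt_ext h)

theorem mulVec_inv_cancel (g : SL F) (x : Fin 2 → F) : mt g⁻¹ *ᵥ (mt g *ᵥ x) = x := by
  rw [Matrix.mulVec_mulVec, ← mt_mul, inv_mul_cancel, mt_one, Matrix.one_mulVec]

theorem mulVec_cancel_inv (g : SL F) (x : Fin 2 → F) : mt g *ᵥ (mt g⁻¹ *ᵥ x) = x := by
  rw [Matrix.mulVec_mulVec, ← mt_mul, mul_inv_cancel, mt_one, Matrix.one_mulVec]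

theorem eq_of_emb_eq {a b : α} {x y : Fin 2 → F} (hx : x ≠ 0) (h : emb a x = emb b y) : a = b := by
  by_contra hne
  have h' := congrArg (bl a) h
  rw [bl_emb_self, bl_emb_ne hne] at h'
  exact hx h'

theorem vec_eq_sum (v : Vec α F) : v = ∑ a, emb a (bl a v) := bl_ext fun b => by
  rw [map_sum, Finset.sum_eq_single b (fun c _ hc => bl_emb_ne (Ne.symm hc) _) (by simp), bl_emb_self]

theorem symp_ext_emb {g k : Spg α F} (h : ∀ (a : α) (x : Fin 2 → F), g • emb a x = k • emb a x) : g = k :=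
  symp_ext fun v => by
    rw [vec_eq_sum v, Finset.smul_sum, Finset.smul_sum]
    exact Finset.sum_congr rfl fun a _ => h a _

theorem rho_conj (f : α → SL F) (σ : Equiv.Perm α) (b : α) (h : SL F) :
    (baseHom f * permHom σ) * rho b h * (baseHom f * permHom σ)⁻¹ =
      rho (σ b) (f (σ b) * h * (f (σ b))⁻¹) := by
  have h1 : permHom σ * rho b h * (permHom (F := F) σ)⁻¹ = rho (σ b) h := by
    rw [rho_apply, conj_base, rho_apply]
    congr 1
    funext i
    rcases eq_or_ne i (σ b) with rfl | hi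
    · simp
    · rw [Pi.mulSingle_eq_of_ne hi, Pi.mulSingle_eq_of_ne]
      intro e
      exact hi (by rw [← e, Equiv.apply_symm_apply])
  rw [show (baseHom f * permHom σ) * rho b h * (baseHom f * permHom σ)⁻¹ =
    baseHom f * (permHom σ * rho b h * (permHom σ)⁻¹) * (baseHom f)⁻¹ by group, h1, rho_apply, rho_apply,
    ← map_mul, ← map_inv, ← map_mul]
  congr 1
  funext i
  rcases eq_or_ne i (σ b) with rfl | hi
  · simp
  · simp [Pi.mulSingle_eq_of_ne hi]

/-- An element fixing a plane pointwise commutes with the `SL₂` of that plane. -/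
theorem commute_rho_of_fix {g : Spg α F} {a : α} (h : ∀ x : Fin 2 → F, g • emb a x = emb a x) (k : SL F) :
    g * rho a k = rho a k * g := by
  have hb : ∀ v : Vec α F, bl a (g • v) = bl a v := fun v => by
    refine sub_eq_zero.1 (det2_eq_zero fun y => ?_)
    have h1 : det2 (bl a (g • v)) y = det2 (bl a v) y := by
      rw [← form_emb_right a y (g • v), ← h y, form_smul_smul, form_emb_right]
    simp only [det2, Pi.sub_apply] at h1 ⊢
    linear_combination h1
  refine symp_ext fun v => ?_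
  have hsplit : ∀ w : Vec α F, rho a k • w = w - emb a (bl a w) + emb a (mt k *ᵥ bl a w) := by
    intro w
    refine bl_ext fun b => ?_
    rcases eq_or_ne b a with rfl | hne
    · rw [bl_rho_self, map_add, map_sub, bl_emb_self, bl_emb_self, sub_self, zero_add]
    · rw [bl_rho_ne hne, map_add, map_sub, bl_emb_ne hne, bl_emb_ne hne]; simp
  rw [mul_smul, mul_smul, hsplit, hsplit, smul_add, smul_sub, h, h, hb]

/-- An element preserving a plane acts on it by an element of `SL₂`. -/
theorem exists_restrict {g : Spg α F} {a : α}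
    (h : ∀ x : Fin 2 → F, ∀ b, b ≠ a → bl b (g • emb a x) = 0) :
    ∃ k : SL F, ∀ x, g • emb a x = emb a (mt k *ᵥ x) := by
  let M : Matrix (Fin 2) (Fin 2) F :=
    LinearMap.toMatrix' ((bl a).comp ((Matrix.mulVecLin g.1).comp (emb a)))
  have hM : ∀ x, M *ᵥ x = bl a (g • emb a x) := fun x => by
    simp only [M, LinearMap.toMatrix'_mulVec]
    rfl
  have hg : ∀ x, g • emb a x = emb a (M *ᵥ x) := fun x => by rw [hM]; exact eq_emb (h x)
  have hform : det2 (M *ᵥ ![0, 1]) (M *ᵥ ![1, 0]) = det2 ![0, 1] ![(1 : F), 0] := by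
    rw [hM, hM, ← form_emb_left a _ (g • emb a _), ← eq_emb (h _), form_smul_smul, form_emb_left, bl_emb_self]
  have hdet : M.det = 1 := by
    simp [det2, Matrix.mulVec, dotProduct, Fin.sum_univ_two] at hform
    rw [Matrix.det_fin_two]
    linear_combination hform
  exact ⟨⟨M, hdet⟩, hg⟩

/-- Elements fixing pointwise all planes outside `S`. -/
def SpS (F : Type*) [Field F] (S : Finset α) : Subgroup (Spg α F) where
  carrier := {g | ∀ a ∉ S, ∀ x : Fin 2 → F, g • emb a x = emb a x}
  one_mem' := fun a _ x => one_smul _ _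
  mul_mem' := fun {g k} hg hk a ha x => by rw [mul_smul, hk a ha, hg a ha]
  inv_mem' := fun {g} hg a ha x => by rw [inv_smul_eq_iff, hg a ha]

theorem rho_mem_SpS {S : Finset α} {a : α} (ha : a ∈ S) (k : SL F) : rho a k ∈ SpS F S := fun b hb _ =>
  rho_fix k (bl_emb_ne (fun e : a = b => hb (by rw [← e]; exact ha)) _)

variable [Fintype F]

theorem mono_tInv {m : Spg α F} (hm : m ∈ Mon α F) :
    ∃ σ : Equiv.Perm α, ∀ a, m * tInv a * m⁻¹ = tInv (σ a) := by
  obtain ⟨f, σ, rfl⟩ := hm
  exact ⟨σ, fun a => by rw [tInv, rho_conj, ← negOne_comm, mul_inv_cancel_right]; rfl⟩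

theorem tInv_mem_SpS {S : Finset α} {a : α} (ha : a ∈ S) : tInv (F := F) a ∈ SpS F S := rho_mem_SpS ha _

theorem commute_tInv_of_not_mem (hodd : Odd (Fintype.card F)) {S : Finset α} {g : Spg α F}
    (hg : g ∈ SpS F S) {a : α} (ha : a ∉ S) : g * tInv a * g⁻¹ = tInv a := by
  rw [commute_tInv_of_fix hodd (hg a ha), mul_inv_cancel_right]

/-- An element commuting with a reflection preserves its plane. -/
theorem restrict_of_commute (hodd : Odd (Fintype.card F)) {g : Spg α F} {a : α}
    (h : g * tInv a = tInv a * g) : ∃ k : SL F, ∀ x, g • emb a x = emb a (mt k *ᵥ x) := by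
  refine exists_restrict fun x => (tInv_neg_iff hodd).1 ?_
  rw [← mul_smul, ← h, mul_smul, (tInv_neg_iff hodd).2 fun c hc => bl_emb_ne hc x, smul_neg]

variable (D : QData F)

/-- The base group on the planes in `S`. -/
def BS (S : Finset α) : Subgroup (Spg α F) :=
  (Subgroup.pi Set.univ fun a => if a ∈ S then (D.P : Subgroup (SL F)) else ⊥).map baseHom

theorem rho_mem_BS {S : Finset α} {a : α} (ha : a ∈ S) {h : SL F} (hh : h ∈ (D.P : Subgroup (SL F))) :
    rho a h ∈ BS D S :=
  ⟨Pi.mulSingle a h, fun b _ => by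
    rcases eq_or_ne b a with rfl | hb
    · simp [ha, hh]
    · simp [Pi.mulSingle_eq_of_ne hb], rfl⟩

theorem BS_le_iff {S : Finset α} {M : Subgroup (Spg α F)} :
    BS D S ≤ M ↔ ∀ a ∈ S, ∀ h ∈ (D.P : Subgroup (SL F)), rho a h ∈ M := by
  refine ⟨fun h a ha k hk => h (rho_mem_BS D ha hk), fun h => ?_⟩
  rintro _ ⟨f, hf, rfl⟩
  show f ∈ M.comap baseHom
  refine Subgroup.pi_mem_of_mulSingle_mem f fun a => ?_
  have : f a ∈ (if a ∈ S then (D.P : Subgroup (SL F)) else ⊥) := hf a trivial
  by_cases ha : a ∈ S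
  · simp only [ha, if_true] at this
    exact h a ha _ this
  · simp only [ha, if_false, Subgroup.mem_bot] at this
    rw [this, Pi.mulSingle_one]
    exact one_mem _

theorem BS_le_SpS (S : Finset α) : BS D S ≤ SpS F S :=
  (BS_le_iff D).2 fun _ ha h _ => rho_mem_SpS ha h

theorem BS_le_Mon (S : Finset α) : BS D S ≤ Mon α F := fun _ ⟨f, _, e⟩ => e ▸ base_mem_Mon f

theorem isPGroup_BS (S : Finset α) : IsPGroup 2 (BS D S) := by
  have : Fact (Nat.Prime 2) := ⟨Nat.prime_two⟩
  obtain ⟨k, hk⟩ := IsPGroup.iff_card.1 D.P.2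
  rintro ⟨_, f, hf, rfl⟩
  refine ⟨k, Subtype.ext ?_⟩
  show baseHom f ^ 2 ^ k = 1
  rw [← map_pow, ← map_one baseHom]
  congr 1
  funext a
  have : f a ∈ (if a ∈ S then (D.P : Subgroup (SL F)) else ⊥) := hf a trivial
  by_cases ha : a ∈ S
  · simp only [ha, if_true] at this
    have h1 := congrArg Subtype.val (pow_card_eq_one' (x := (⟨f a, this⟩ : (D.P : Subgroup (SL F)))))
    rw [hk] at h1
    simpa using h1
  · simp only [ha, if_false, Subgroup.mem_bot] at this
    simp [this]

variable {D}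

/-- A 2-group over the base group meets the diagonal only in the base group. -/
theorem base_mem_of_two_group {S : Finset α} {R : Subgroup (Spg α F)} (hR : IsPGroup 2 R)
    (hB : BS D S ≤ R) (hS : R ≤ SpS F S) {f : α → SL F} (hf : baseHom f ∈ R) (a : α) :
    f a ∈ (D.P : Subgroup (SL F)) := by
  by_cases ha : a ∈ S
  · have h1 : IsPGroup 2 ((R.comap baseHom).map (Pi.evalMonoidHom (fun _ : α => SL F) a)) :=
      (hR.comap_of_injective _ baseHom_injective).map _
    have h2 : (D.P : Subgroup (SL F)) ≤ (R.comap baseHom).map (Pi.evalMonoidHom (fun _ : α => SL F) a) :=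
      fun h hh => ⟨Pi.mulSingle a h, hB (rho_mem_BS D ha hh), by simp⟩
    rw [← D.P.3 h1 h2]
    exact ⟨f, hf, rfl⟩
  · have : f a = 1 := SL_ext fun x => by
      have h := hS hf a ha x
      rw [smul_emb_base] at h
      rw [emb_injective a h, mt_one, Matrix.one_mulVec]
    rw [this]; exact one_mem _

/-- A monomial element of a 2-group over the base group permutes the quaternion groups. -/
theorem blocks_normalise {S : Finset α} {R : Subgroup (Spg α F)} (hR : IsPGroup 2 R)
    (hB : BS D S ≤ R) (hS : R ≤ SpS F S) {f : α → SL F} {σ : Equiv.Perm α}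
    (hf : baseHom f * permHom σ ∈ R) {b : α} (hb : b ∈ S) :
    f (σ b) ∈ Subgroup.normalizer ((D.P : Subgroup (SL F)) : Set (SL F)) := by
  refine mem_normalizer_of_fin fun h hh => ?_
  have h1 := mul_mem (mul_mem hf (hB (rho_mem_BS D hb hh))) (inv_mem hf)
  rw [rho_conj, rho_apply] at h1
  simpa using base_mem_of_two_group hR hB hS h1 (σ b)

/-! ### Conjugates of a reflection -/

/-- Exchange of the planes `b`, `c` through `f`. -/
def Swap (s : Spg α F) (b c : α) (f : SL F) : Prop :=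
  b ≠ c ∧ ∀ v : Vec α F, bl b (s • v) = mt f⁻¹ *ᵥ bl c v ∧ bl c (s • v) = mt f *ᵥ bl b v ∧
    ∀ d, d ≠ b → d ≠ c → bl d (s • v) = bl d v

theorem Swap.smul_emb {s : Spg α F} {b c : α} {f : SL F} (h : Swap s b c f) (x : Fin 2 → F) :
    s • emb b x = emb c (mt f *ᵥ x) := bl_ext fun d => by
  obtain ⟨h1, h2, h3⟩ := h.2 (emb b x)
  rcases eq_or_ne d c with rfl | hc
  · rw [h2, bl_emb_self, bl_emb_self]
  rw [bl_emb_ne hc]
  rcases eq_or_ne d b with rfl | hb
  · rw [h1, bl_emb_ne h.1.symm, Matrix.mulVec_zero]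
  · rw [h3 d hb hc, bl_emb_ne hb]

theorem Swap.fix {s : Spg α F} {b c : α} {f : SL F} (h : Swap s b c f) {v : Vec α F}
    (hv : bl c v = mt f *ᵥ bl b v) : s • v = v := bl_ext fun d => by
  obtain ⟨h1, h2, h3⟩ := h.2 v
  rcases eq_or_ne d b with rfl | hb
  · rw [h1, hv, mulVec_inv_cancel]
  rcases eq_or_ne d c with rfl | hc
  · rw [h2, hv]
  exact h3 d hb hc

theorem conj_fix (hodd : Odd (Fintype.card F)) {y : Spg α F} {a : α} {v : Vec α F}
    (h : (y * tInv a * y⁻¹) • v = v) (k : SL F) : (y * rho a k * y⁻¹) • v = v := by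
  rw [mul_smul, mul_smul, ← eq_inv_smul_iff] at h
  rw [mul_smul, mul_smul, ← eq_inv_smul_iff]
  exact rho_fix k ((tInv_fix_iff hodd).1 h)

/-- A monomial conjugate of a reflection is a reflection or an exchange of two planes. -/
theorem tInv_or_swap (hodd : Odd (Fintype.card F)) {y : Spg α F} {a : α}
    (hs : y * tInv a * y⁻¹ ∈ Mon α F) :
    (∃ b, y * tInv a * y⁻¹ = tInv b) ∨ ∃ b c f, Swap (y * tInv a * y⁻¹) b c f := by
  obtain ⟨fs, σ, hs⟩ := hs
  set s := y * tInv a * y⁻¹ with hsdef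
  have hss : s * s = 1 := by
    rw [hsdef, show y * tInv a * y⁻¹ * (y * tInv a * y⁻¹) = y * (tInv a * tInv a) * y⁻¹ by group, tInv_sq,
      mul_one, mul_inv_cancel]
  -- any linear injection of a plane into the negated space is onto it
  have honto : ∀ g : (Fin 2 → F) → Vec α F, Function.Injective g → (∀ x, s • g x = -(g x)) →
      ∀ u, s • u = -u → ∃ x, u = g x := by
    intro g hg hgs u hu
    have hmem : ∀ w, s • w = -w → y⁻¹ • w = emb a (bl a (y⁻¹ • w)) := fun w hw => by
      refine eq_emb ((tInv_neg_iff hodd).1 ?_)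
      have := congrArg (fun z => y⁻¹ • z) hw
      simpa [hsdef, mul_smul, smul_neg] using this
    have hinj : Function.Injective fun x => bl a (y⁻¹ • g x) := fun x x' e => hg (MulAction.injective y⁻¹ (by
      show y⁻¹ • g x = y⁻¹ • g x'
      rw [hmem _ (hgs x), hmem _ (hgs x')]; exact congrArg (emb a) e))
    obtain ⟨x, hx⟩ := (Finite.injective_iff_surjective.1 hinj) (bl a (y⁻¹ • u))
    refine ⟨x, MulAction.injective y⁻¹ ?_⟩
    show y⁻¹ • u = y⁻¹ • g x
    rw [hmem _ hu, hmem _ (hgs x)]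
    exact congrArg (emb a) hx.symm
  have hsemb : ∀ d x, s • emb d x = emb (σ d) (mt (fs (σ d)) *ᵥ x) := fun d x => by
    rw [hs, smul_emb_mono]
  have he : (![1, 0] : Fin 2 → F) ≠ 0 := fun e => by simpa using congrFun e 0
  have hne : ∀ k : SL F, mt k *ᵥ (![1, 0] : Fin 2 → F) ≠ 0 := fun k e => he (by
    rw [← mulVec_inv_cancel k ![1, 0], e, Matrix.mulVec_zero])
  have hsq : ∀ d, σ (σ d) = d ∧ fs (σ (σ d)) * fs (σ d) = 1 := fun d => by
    have h : ∀ x, emb (σ (σ d)) (mt (fs (σ (σ d)) * fs (σ d)) *ᵥ x) = emb d x := fun x => by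
      rw [mt_mul, ← Matrix.mulVec_mulVec, ← hsemb, ← hsemb, ← mul_smul, hss, one_smul]
    have h1 := eq_of_emb_eq (hne _) (h ![1, 0])
    refine ⟨h1, SL_ext fun x => ?_⟩
    have h2 := h x
    rw [h1] at h2 ⊢
    rw [emb_injective d h2, mt_one, Matrix.one_mulVec]
  by_cases hσ : σ = 1
  · left
    subst hσ
    simp only [Equiv.Perm.one_apply] at hsemb hsq
    have hf : ∀ d, fs d = 1 ∨ fs d = negOne F := fun d =>
      center_cases (mem_center_of_mul_self hodd (hsq d).2)
    obtain ⟨b, hb⟩ : ∃ b, fs b = negOne F := by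
      by_contra hno
      push_neg at hno
      have h1 : s = 1 := symp_ext_emb fun d x => by
        rw [hsemb, (hf d).resolve_right (hno d), mt_one, Matrix.one_mulVec, one_smul]
      rw [hsdef, conj_eq_one_iff] at h1
      exact tInv_ne_one hodd a h1
    refine ⟨b, symp_ext_emb fun d x => ?_⟩
    rcases eq_or_ne d b with rfl | hd
    · rw [hsemb, hb, tInv, rho_apply, smul_emb_base, Pi.mulSingle_eq_same]
    rw [hsemb, show tInv (F := F) b • emb d x = emb d x from rho_fix _ (bl_emb_ne hd.symm _)]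
    rcases hf d with e | e
    · rw [e, mt_one, Matrix.one_mulVec]
    obtain ⟨x', hx'⟩ := honto (fun x => emb b x) (emb_injective b)
      (fun x => by rw [hsemb, hb, mulVec_negOne, map_neg]) (emb d ![1, 0])
      (by rw [hsemb, e, mulVec_negOne, map_neg])
    exact absurd (eq_of_emb_eq he hx') hd
  · right
    obtain ⟨b, hb⟩ := not_forall.1 fun h => hσ (Equiv.ext fun d => by rw [Equiv.Perm.one_apply]; exact h d)
    set c := σ b with hc
    have hcb : σ c = b := (hsq b).1
    have hff : fs b * fs c = 1 := by rw [← hcb]; exact (hsq b).2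
    have hbinv : fs b = (fs c)⁻¹ := eq_inv_of_mul_eq_one_left hff
    let g : (Fin 2 → F) → Vec α F := fun x => emb b x - emb c (mt (fs c) *ᵥ x)
    have hgs : ∀ x, s • g x = -(g x) := fun x => by
      simp only [g, smul_sub, hsemb, hcb]
      rw [← hc, Matrix.mulVec_mulVec x (mt (fs b)) (mt (fs c)), ← mt_mul, hff, mt_one, Matrix.one_mulVec, neg_sub]
    have hg : Function.Injective g := fun x x' e => by
      have := congrArg (bl b) e
      simpa [g, bl_emb_ne (Ne.symm hb)] using this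
    have hrest : ∀ d, d ≠ b → d ≠ c → ∀ x : Fin 2 → F, s • emb d x = emb d x := by
      intro d hdb hdc x
      obtain ⟨x', hx'⟩ := honto g hg hgs (emb d x - s • emb d x)
        (by rw [smul_sub, ← mul_smul, hss, one_smul, neg_sub])
      rw [hsemb] at hx' ⊢
      have hσd : b ≠ σ d := fun e => hdc (by rw [hc, e, (hsq d).1])
      have h0 := congrArg (bl b) hx'
      simp only [g, map_sub, bl_emb_ne hdb.symm, bl_emb_ne hσd, bl_emb_self, bl_emb_ne (Ne.symm hb), sub_zero,
        sub_self] at h0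
      rw [← h0] at hx'
      simp only [g, Matrix.mulVec_zero, map_zero, sub_zero] at hx'
      exact (sub_eq_zero.1 hx').symm
    have hfix : ∀ d, d ≠ b → d ≠ c → σ d = d ∧ fs d = 1 := fun d hdb hdc => by
      have h1 := hrest d hdb hdc ![1, 0]
      rw [hsemb] at h1
      have hσd : σ d = d := eq_of_emb_eq (hne _) h1
      refine ⟨hσd, SL_ext fun x => ?_⟩
      have h2 := hrest d hdb hdc x
      rw [hsemb, hσd] at h2
      rw [emb_injective d h2, mt_one, Matrix.one_mulVec]
    have hsymm : ∀ d, σ.symm d = σ d := fun d => by rw [Equiv.symm_apply_eq, (hsq d).1]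
    refine ⟨b, c, fs c, Ne.symm hb, fun v => ⟨?_, ?_, fun d hdb hdc => ?_⟩⟩
    · rw [hs, bl_mono, hsymm, ← hc, hbinv]
    · rw [hs, bl_mono, hsymm, hcb]
    · obtain ⟨h1, h2⟩ := hfix d hdb hdc
      rw [hs, bl_mono, hsymm, h1, h2, mt_one, Matrix.one_mulVec]

/-- If a conjugate of a quaternion generator is monomial, the conjugate of the reflection is a reflection. -/
theorem conj_tInv_of_i (hodd : Odd (Fintype.card F)) {y : Spg α F} {a : α}
    (hg : y * rho a D.i * y⁻¹ ∈ Mon α F) : ∃ b, y * tInv a * y⁻¹ = tInv b := by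
  have hgg : y * rho a D.i * y⁻¹ * (y * rho a D.i * y⁻¹) = y * tInv a * y⁻¹ := by
    rw [show y * rho a D.i * y⁻¹ * (y * rho a D.i * y⁻¹) = y * (rho a D.i * rho a D.i) * y⁻¹ by group,
      ← map_mul, ii D]
    rfl
  refine (tInv_or_swap hodd (hgg ▸ mul_mem hg hg)).resolve_right ?_
  rintro ⟨b, c, f, hw⟩
  obtain ⟨fg, τ, hg⟩ := hg
  have he : (![1, 0] : Fin 2 → F) ≠ 0 := fun e => by simpa using congrFun e 0
  have hτ : ∀ d, d ≠ b → d ≠ c → τ d = d := fun d hdb hdc => by
    have h1 := conj_fix hodd (hw.fix (v := emb d ![1, 0])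
      (by rw [bl_emb_ne hdb.symm, bl_emb_ne hdc.symm, Matrix.mulVec_zero])) D.i
    rw [hg, smul_emb_mono] at h1
    exact (eq_of_emb_eq he h1.symm).symm
  have hmem : ∀ d, (d = b ∨ d = c) → τ d = b ∨ τ d = c := by
    intro d hd
    by_contra hno
    push_neg at hno
    have := τ.injective (hτ _ hno.1 hno.2)
    rcases hd with rfl | rfl
    · exact hno.1 this
    · exact hno.2 this
  have h2 : τ (τ b) = b := by
    rcases hmem b (Or.inl rfl) with h | h
    · rw [h, h]
    · rw [h]
      refine (hmem c (Or.inr rfl)).resolve_right fun hc => hw.1 (τ.injective (h.trans hc.symm))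
  have h3 : (y * tInv a * y⁻¹) • emb b (![1, 0] : Fin 2 → F) = emb c (mt f *ᵥ ![1, 0]) := hw.smul_emb _
  rw [← hgg, hg, mul_smul, smul_emb_mono, smul_emb_mono, h2] at h3
  exact hw.1 (eq_of_emb_eq (fun e => he (by rw [← mulVec_inv_cancel f ![1, 0], e, Matrix.mulVec_zero]))
    h3.symm).symm

/-- An element conjugating the base group into monomial elements is monomial. -/
theorem mem_Mon_of_normalizes (hodd : Odd (Fintype.card F)) {S : Finset α} {x : Spg α F} (hx : x ∈ SpS F S)
    (h : ∀ a ∈ S, x * rho a D.i * x⁻¹ ∈ Mon α F) : x ∈ Mon α F :=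
  mem_Mon_of_conj hodd fun a => by
    by_cases ha : a ∈ S
    · exact conj_tInv_of_i hodd (h a ha)
    · exact ⟨a, commute_tInv_of_not_mem hodd hx ha⟩

/-- A 2-group over the base group is monomial. -/
theorem two_group_le_Mon (hodd : Odd (Fintype.card F)) {S : Finset α} {R : Subgroup (Spg α F)}
    (hR : IsPGroup 2 R) (hB : BS D S ≤ R) (hS : R ≤ SpS F S) : R ≤ Mon α F := by
  have : Fact (Nat.Prime 2) := ⟨Nat.prime_two⟩
  have : Group.IsNilpotent R := hR.isNilpotent
  by_contra hne
  have hlt : (Mon α F).subgroupOf R < ⊤ := lt_top_iff_ne_top.mpr fun h => hne (Subgroup.subgroupOf_eq_top.mp h)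
  obtain ⟨⟨x, hxR⟩, hx, hxM⟩ := SetLike.exists_of_lt (Group.normalizerCondition_of_isNilpotent _ hlt)
  refine hxM ?_
  rw [Subgroup.mem_subgroupOf]
  refine mem_Mon_of_normalizes (D := D) hodd (hS hxR) fun a ha => ?_
  have h1 := (Subgroup.mem_normalizer_iff.1 hx ⟨rho a D.i, hB (rho_mem_BS D ha D.hi)⟩).1
    (Subgroup.mem_subgroupOf.2 (rho_mem_Mon a D.i))
  simpa [Subgroup.mem_subgroupOf] using h1

end CfsgLib.PronormalPSp
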