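import Cfsg.Agent.PronormalPSp.Support
import Cfsg.Agent.Solvable.Basics

/-!
A monomial non-reflection conjugate of a reflection fuses two planes.
-/

set_option autoImplicit false
set_option linter.unusedSectionVars false

namespace CfsgLib.PronormalPSp

open Matrix CfsgLib.SL2C CfsgLib.Symp CfsgLib.SympSylowTwo CfsgLib.SpFour CfsgLib.Linear.FourGroups

variable {F : Type*} [Field F]
variable {α : Type*} [Fintype α] [DecidableEq α]

/-- The negated vectors of an exchange. -/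
def U (b c : α) (δ : SL F) (x : Fin 2 → F) : Vec α F := emb b x - emb c (mt δ *ᵥ x)

/-- `g` is the identity on the fixed space of an exchange and acts on the negated space as `h`. -/
def UProp (b c : α) (δ : SL F) (g : Spg α F) (h : SL F) : Prop :=
  (∀ v : Vec α F, bl c v = mt δ *ᵥ bl b v → g • v = v) ∧ ∀ x, g • U b c δ x = U b c δ (mt h *ᵥ x)

variable {b c : α} {δ : SL F}

theorem bl_U (hbc : b ≠ c) (x : Fin 2 → F) :
    bl b (U b c δ x) = x ∧ bl c (U b c δ x) = -(mt δ *ᵥ x) ∧ ∀ d, d ≠ b → d ≠ c → bl d (U b c δ x) = 0 := by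
  refine ⟨?_, ?_, fun d hdb hdc => ?_⟩ <;> rw [U, map_sub]
  · rw [bl_emb_self, bl_emb_ne hbc, sub_zero]
  · rw [bl_emb_ne hbc.symm, bl_emb_self, zero_sub]
  · rw [bl_emb_ne hdb, bl_emb_ne hdc, sub_zero]

theorem U_injective (hbc : b ≠ c) : Function.Injective (U b c δ) := fun x y h => by
  rw [← (bl_U (δ := δ) hbc x).1, h, (bl_U (δ := δ) hbc y).1]

theorem UProp.one : UProp b c δ 1 1 :=
  ⟨fun _ _ => one_smul _ _, fun x => by rw [one_smul, mt_one, Matrix.one_mulVec]⟩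

theorem UProp.mul {g g' : Spg α F} {h h' : SL F} (H : UProp b c δ g h) (H' : UProp b c δ g' h') :
    UProp b c δ (g * g') (h * h') :=
  ⟨fun v hv => by rw [mul_smul, H'.1 v hv, H.1 v hv],
    fun x => by rw [mul_smul, H'.2, H.2, Matrix.mulVec_mulVec, mt_mul]⟩

theorem UProp.inv {g : Spg α F} {h : SL F} (H : UProp b c δ g h) : UProp b c δ g⁻¹ h⁻¹ :=
  ⟨fun v hv => by rw [inv_smul_eq_iff, H.1 v hv],
    fun x => by rw [inv_smul_eq_iff, H.2, mulVec_cancel_inv]⟩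

theorem UProp.unique (hbc : b ≠ c) {g : Spg α F} {h h' : SL F} (H : UProp b c δ g h) (H' : UProp b c δ g h') :
    h = h' :=
  SL_ext fun x => U_injective hbc ((H.2 x).symm.trans (H'.2 x))

theorem UProp.exists_of_fix (hbc : b ≠ c) {g : Spg α F}
    (hg : ∀ v : Vec α F, bl c v = mt δ *ᵥ bl b v → g • v = v) (h2 : (2 : F) ≠ 0) :
    ∃ h : SL F, UProp b c δ g h := by
  have key : ∀ x, g • U b c δ x = U b c δ (bl b (g • U b c δ x)) := fun x => by
    obtain ⟨hUb, hUc, hUd⟩ := bl_U (δ := δ) hbc x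
    set w := g • U b c δ x with hw
    have hperp : ∀ v : Vec α F, bl c v = mt δ *ᵥ bl b v → form w v = form (U b c δ x) v := fun v hv => by
      conv_lhs => rw [hw, ← hg v hv, form_smul_smul]
    refine bl_ext fun d => ?_
    obtain ⟨hWb, hWc, hWd⟩ := bl_U (δ := δ) hbc (bl b w)
    rcases eq_or_ne d b with rfl | hdb
    · rw [hWb]
    rcases eq_or_ne d c with rfl | hdc
    · rw [hWc, ← sub_eq_zero]
      refine det2_eq_zero fun z => ?_
      obtain ⟨y, rfl⟩ : ∃ y, mt δ *ᵥ y = z := ⟨mt δ⁻¹ *ᵥ z, mulVec_cancel_inv δ z⟩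
      have h1 := hperp (emb b y + emb d (mt δ *ᵥ y)) (by
        simp only [map_add, bl_emb_self, bl_emb_ne hbc, bl_emb_ne hbc.symm, add_zero, zero_add])
      simp only [form_add_right, form_emb_right, hUb, hUc] at h1
      have e1 := det2_mulVec δ x y
      have e2 := det2_mulVec δ (bl b w) y
      simp only [det2, Pi.sub_apply, Pi.neg_apply] at h1 e1 e2 ⊢
      linear_combination h1 + e2 - e1
    · rw [hWd d hdb hdc]
      refine det2_eq_zero fun z => ?_
      have h1 := hperp (emb d z) (by rw [bl_emb_ne hdc.symm, bl_emb_ne hdb.symm, Matrix.mulVec_zero])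
      rw [form_emb_right, form_emb_right, hUd d hdb hdc] at h1
      rw [h1]
      simp [det2]
  obtain ⟨M, hL⟩ : ∃ M : Matrix (Fin 2) (Fin 2) F, ∀ x, M *ᵥ x = bl b (g • U b c δ x) :=
    ⟨LinearMap.toMatrix'
      ((bl b).comp ((Matrix.mulVecLin g.1).comp (emb b - (emb c).comp (Matrix.mulVecLin (mt δ))))),
      fun x => by rw [LinearMap.toMatrix'_mulVec]; rfl⟩
  have hdet : M.det = 1 := by
    have hf : ∀ x y, form (U b c δ x) (U b c δ y) = 2 * det2 x y := fun x y => by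
      conv_lhs => rw [U]
      rw [form_sub_left, form_emb_left, form_emb_left, (bl_U hbc y).1, (bl_U hbc y).2.1]
      have e := det2_mulVec δ x y
      simp only [det2, Pi.neg_apply] at e ⊢
      linear_combination e
    have h1 := form_smul_smul g (U b c δ ![0, 1]) (U b c δ ![1, 0])
    rw [key, key ![1, 0], hf, hf, ← hL, ← hL] at h1
    have h3 := mul_left_cancel₀ h2 h1
    simp [det2, Matrix.mulVec, dotProduct, Fin.sum_univ_two] at h3
    rw [Matrix.det_fin_two]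
    linear_combination h3
  refine ⟨⟨M, hdet⟩, hg, fun x => ?_⟩
  rw [key x]
  congr 1
  exact (hL x).symm

/-- The coordinates of the image under `g`, doubled. -/
theorem UProp.coord (hbc : b ≠ c) (h2 : (2 : F) ≠ 0) {g : Spg α F} {h : SL F} (H : UProp b c δ g h)
    (v : Vec α F) :
    (2 : F) • bl b (g • v) = (1 + mt h) *ᵥ bl b v + (1 - mt h) *ᵥ (mt δ⁻¹ *ᵥ bl c v) ∧
      (2 : F) • (mt δ⁻¹ *ᵥ bl c (g • v)) = (1 - mt h) *ᵥ bl b v + (1 + mt h) *ᵥ (mt δ⁻¹ *ᵥ bl c v) ∧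
      ∀ d, d ≠ b → d ≠ c → bl d (g • v) = bl d v := by
  set X := bl b v with hX
  set Y := mt δ⁻¹ *ᵥ bl c v with hY
  set x := (2 : F)⁻¹ • (X - Y) with hx
  have hc : bl c v = mt δ *ᵥ Y := (mulVec_cancel_inv δ _).symm
  obtain ⟨hUb, hUc, hUd⟩ := bl_U (δ := δ) hbc x
  have hfix : bl c (v - U b c δ x) = mt δ *ᵥ bl b (v - U b c δ x) := by
    rw [map_sub, map_sub, hUb, hUc, hc, sub_neg_eq_add, ← Matrix.mulVec_add, ← hX]
    congr 1
    rw [hx]
    ext k
    simp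
    field_simp
    ring
  have hgv : g • v = v - U b c δ x + U b c δ (mt h *ᵥ x) := by
    conv_lhs => rw [← sub_add_cancel v (U b c δ x), smul_add, H.1 _ hfix, H.2]
  obtain ⟨hWb, hWc, hWd⟩ := bl_U (δ := δ) hbc (mt h *ᵥ x)
  have hsm : ∀ k : Fin 2, (2 : F) * x k = X k - Y k := fun k => by
    rw [hx]; simp [mul_inv_cancel_left₀ h2]
  have hhx : ∀ k : Fin 2, (2 : F) * (mt h *ᵥ x) k = (mt h *ᵥ X) k - (mt h *ᵥ Y) k := fun k => by
    rw [← Pi.sub_apply, ← Matrix.mulVec_sub, hx, Matrix.mulVec_smul]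
    simp [mul_inv_cancel_left₀ h2]
  refine ⟨?_, ?_, fun d hdb hdc => ?_⟩
  · rw [hgv, map_add, map_sub, hUb, hWb, ← hX, Matrix.add_mulVec, Matrix.sub_mulVec, Matrix.one_mulVec,
      Matrix.one_mulVec]
    ext k
    simp only [Pi.add_apply, Pi.sub_apply, Pi.neg_apply, Pi.smul_apply, smul_eq_mul]
    linear_combination (hhx k) - (hsm k)
  · rw [hgv, map_add, map_sub, hUc, hWc, sub_neg_eq_add, Matrix.mulVec_add, Matrix.mulVec_add,
      Matrix.mulVec_neg, mulVec_inv_cancel, mulVec_inv_cancel, ← hY, Matrix.add_mulVec, Matrix.sub_mulVec,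
      Matrix.one_mulVec, Matrix.one_mulVec]
    ext k
    simp only [Pi.add_apply, Pi.sub_apply, Pi.neg_apply, Pi.smul_apply, smul_eq_mul]
    linear_combination (hsm k) - (hhx k)
  · rw [hgv, map_add, map_sub, hUd d hdb hdc, hWd d hdb hdc, sub_zero, add_zero]

variable [Fintype F] {D : QData F}

/-- The product of three exchanged quaternions is diagonal of order three modulo the base group. -/
theorem UProp.product (hodd : Odd (Fintype.card F)) (hbc : b ≠ c) {g g' : Spg α F}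
    (H : UProp b c δ g D.i) (H' : UProp b c δ g' (D.j * D.i)) :
    g * rho b D.j * g' = rho b ((tEl D hodd)⁻¹ * (D.i * D.j)) * rho c (δ * ((tEl D hodd)⁻¹ * D.j) * δ⁻¹) := by
  have h2 : (2 : F) ≠ 0 := two_ne_zero_of_odd hodd
  have h8 : (8 : F) ≠ 0 := by
    rw [show (8 : F) = 2 * 2 * 2 by norm_num]
    exact mul_ne_zero (mul_ne_zero h2 h2) h2
  have hji : mt (D.j * D.i) = mt D.j * mt D.i := mt_mul _ _
  obtain ⟨r1, r2, r3, r4⟩ := swap_ring (R := Matrix (Fin 2) (Fin 2) F) (mt_ii D) (mt_jj D) (mt_ji D)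
  rw [← hji] at r1 r2 r3 r4
  set I := mt D.i
  set J := mt D.j
  set K := mt (D.j * D.i)
  have hT : mt (tEl D hodd) = (2 : F)⁻¹ • ((1 + I) * (1 + J)) := rfl
  -- the two diagonal entries
  have hA : ∀ (m z : Matrix (Fin 2) (Fin 2) F) (p : SL F), (1 + I) * (1 + J) * m = (8 : ℕ) • z → mt p = z →
      m = (4 : F) • mt ((tEl D hodd)⁻¹ * p) := by
    intro m z p hm hp
    have h := congrArg (fun w => mt (tEl D hodd)⁻¹ * ((2 : F)⁻¹ • w)) hm
    simp only [← smul_mul_assoc, ← hT] at h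
    rw [← mul_assoc, ← mt_mul, inv_mul_cancel, mt_one, one_mul] at h
    rw [h, mt_mul, hp, ← Nat.cast_smul_eq_nsmul F, smul_smul, mul_smul_comm]
    congr 1
    field_simp
    norm_num
  have e1 := hA _ _ (D.i * D.j) r1 (mt_mul _ _)
  have e4 := hA _ _ D.j r4 rfl
  refine symp_ext fun v => bl_ext fun d => ?_
  obtain ⟨a1, a2, a3⟩ := H'.coord hbc h2 v
  obtain ⟨b1, b2, b3⟩ := H.coord hbc h2 (rho b D.j • g' • v)
  rw [bl_rho_self, bl_rho_ne hbc.symm] at b1 b2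
  rw [mul_smul, mul_smul, mul_smul]
  obtain ⟨X, hXd⟩ : ∃ X, bl b v = X := ⟨_, rfl⟩
  obtain ⟨Y, hYd⟩ : ∃ Y, mt δ⁻¹ *ᵥ bl c v = Y := ⟨_, rfl⟩
  obtain ⟨X₁, hX₁⟩ : ∃ X₁, bl b (g' • v) = X₁ := ⟨_, rfl⟩
  obtain ⟨Y₁, hY₁⟩ : ∃ Y₁, mt δ⁻¹ *ᵥ bl c (g' • v) = Y₁ := ⟨_, rfl⟩
  rw [hXd, hYd, hX₁] at a1
  rw [hXd, hYd, hY₁] at a2
  rw [hX₁, hY₁] at b1 b2
  have hX : (4 : F) • bl b (g • rho b D.j • g' • v) = (4 : F) • (mt ((tEl D hodd)⁻¹ * (D.i * D.j)) *ᵥ X) := by
    rw [show (4 : F) = 2 * 2 by norm_num, mul_smul, b1, smul_add, ← Matrix.mulVec_smul, ← Matrix.mulVec_smul,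
      ← Matrix.mulVec_smul, a1, a2, Matrix.mulVec_add, Matrix.mulVec_add, Matrix.mulVec_add]
    simp only [Matrix.mulVec_mulVec]
    rw [
      show ∀ p q r s : Fin 2 → F, p + q + (r + s) = (p + r) + (q + s) from fun p q r s => by abel,
      ← Matrix.add_mulVec, ← Matrix.add_mulVec, ← mul_assoc, ← mul_assoc, r2, Matrix.zero_mulVec, add_zero, e1,
      ← Matrix.smul_mulVec]
    norm_num
  have hY : (4 : F) • (mt δ⁻¹ *ᵥ bl c (g • rho b D.j • g' • v)) =
      (4 : F) • (mt ((tEl D hodd)⁻¹ * D.j) *ᵥ Y) := by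
    rw [show (4 : F) = 2 * 2 by norm_num, mul_smul, b2, smul_add, ← Matrix.mulVec_smul, ← Matrix.mulVec_smul,
      ← Matrix.mulVec_smul, a1, a2, Matrix.mulVec_add, Matrix.mulVec_add, Matrix.mulVec_add]
    simp only [Matrix.mulVec_mulVec]
    rw [
      show ∀ p q r s : Fin 2 → F, p + q + (r + s) = (p + r) + (q + s) from fun p q r s => by abel,
      ← Matrix.add_mulVec, ← Matrix.add_mulVec, ← mul_assoc, ← mul_assoc, r3, Matrix.zero_mulVec, zero_add, e4,
      ← Matrix.smul_mulVec]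
    norm_num
  have h4 : (4 : F) ≠ 0 := by
    rw [show (4 : F) = 2 * 2 by norm_num]
    exact mul_ne_zero h2 h2
  have hX' := smul_right_injective (Fin 2 → F) h4 hX
  have hY' := smul_right_injective (Fin 2 → F) h4 hY
  rcases eq_or_ne d b with rfl | hdb
  · rw [hX', bl_rho_self, bl_rho_ne hbc, hXd]
  rcases eq_or_ne d c with rfl | hdc
  · rw [bl_rho_ne hdb, bl_rho_self, ← mulVec_cancel_inv δ (bl d (g • rho b D.j • g' • v)), hY', ← hYd]
    simp only [Matrix.mulVec_mulVec, ← mt_mul, mul_assoc]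
  · rw [b3 d hdb hdc, bl_rho_ne hdb, a3 d hdb hdc, bl_rho_ne hdb, bl_rho_ne hdc]

/-- Two planes are fused by a diagonal element of order three. -/
def Pair (hodd : Odd (Fintype.card F)) (D : QData F) (M : Subgroup (Spg α F)) : Prop :=
  ∃ b c : α, b ≠ c ∧ rho b (tEl D hodd) * rho c (tEl D hodd) ∈ M

theorem Pair.mono {hodd : Odd (Fintype.card F)} {M M' : Subgroup (Spg α F)} (h : Pair hodd D M)
    (hle : M ≤ M') : Pair hodd D M' :=
  let ⟨b, c, hbc, h'⟩ := h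
  ⟨b, c, hbc, hle h'⟩

/-- A Sylow subgroup above a given 2-subgroup, with a conjugate of a given 2-element. -/
theorem exists_conj_sylow {G : Type*} [Group G] [Finite G] {M : Subgroup G} {B : Subgroup G} (hB : IsPGroup 2 B)
    (hBM : B ≤ M) {s : G} (hs : s ∈ M) (hs2 : s * s = 1) :
    ∃ (R : Subgroup G) (x : G), IsPGroup 2 R ∧ B ≤ R ∧ R ≤ M ∧ x ∈ M ∧ x * s * x⁻¹ ∈ R := by
  have : Fact (Nat.Prime 2) := ⟨Nat.prime_two⟩
  obtain ⟨P, hP⟩ := (hB.comap_of_injective M.subtype M.subtype_injective).exists_le_sylow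
  have hz : IsPGroup 2 (Subgroup.zpowers (⟨s, hs⟩ : M)) := by
    obtain ⟨l, -, hl⟩ := (Nat.dvd_prime_pow Nat.prime_two).1 (orderOf_dvd_of_pow_eq_one
      (show (⟨s, hs⟩ : M) ^ 2 ^ 1 = 1 from Subtype.ext (by simpa [pow_two] using hs2)))
    exact IsPGroup.of_card (n := l) (by rw [Nat.card_zpowers, hl])
  obtain ⟨P', hP'⟩ := hz.exists_le_sylow
  obtain ⟨⟨x, hx⟩, hxP⟩ := MulAction.exists_smul_eq M P' P
  refine ⟨(P : Subgroup M).map M.subtype, x, P.2.map _, fun y hy => ⟨⟨y, hBM hy⟩, hP hy, rfl⟩,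
    Subgroup.map_subtype_le _, hx, ⟨⟨x, hx⟩ * ⟨s, hs⟩ * ⟨x, hx⟩⁻¹, ?_, rfl⟩⟩
  rw [← hxP, Sylow.coe_subgroup_smul, Subgroup.pointwise_smul_def]
  exact ⟨⟨s, hs⟩, hP' (Subgroup.mem_zpowers _), rfl⟩

/-- A subgroup of `SL₂` normalised by a Sylow subgroup and containing a conjugate of it contains it. -/
theorem sylow_le_of_normalized {G : Type*} [Group G] [Finite G] {p : ℕ} [Fact p.Prime] (P : Sylow p G)
    {K K₀ : Subgroup G} (h0 : K₀ ≤ K) (hcard : Nat.card K₀ = Nat.card (P : Subgroup G))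
    (hn : (P : Subgroup G) ≤ Subgroup.normalizer (K : Set G)) : (P : Subgroup G) ≤ K := by
  have hp := (Fact.out : p.Prime)
  have h1 := CfsgLib.Solvable.card_sup_mul_card_inf hn
  have hd : Nat.card ↥((P : Subgroup G) ⊓ K) ∣ Nat.card (P : Subgroup G) := Subgroup.card_dvd_of_le inf_le_left
  obtain ⟨e, he⟩ := hd
  obtain ⟨m', hm'⟩ := hcard ▸ Subgroup.card_dvd_of_le h0
  have hsup : Nat.card ↥((P : Subgroup G) ⊔ K) = e * Nat.card K := by
    have hpos : 0 < Nat.card ↥((P : Subgroup G) ⊓ K) := Nat.card_pos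
    apply Nat.eq_of_mul_eq_mul_right hpos
    rw [h1, he]; ring
  have hdvd := Subgroup.card_subgroup_dvd_card ((P : Subgroup G) ⊔ K)
  rw [hsup, hm', ← (P : Subgroup G).card_mul_index, mul_left_comm,
    Nat.mul_dvd_mul_iff_left Nat.card_pos] at hdvd
  obtain ⟨l, hl⟩ := IsPGroup.iff_card.1 P.2
  obtain ⟨i, -, hi⟩ := (Nat.dvd_prime_pow hp).1 (hl ▸ Dvd.intro_left _ he.symm : e ∣ p ^ l)
  have hi0 : i = 0 := by
    by_contra h
    exact P.not_dvd_index ((dvd_pow_self p h).trans (hi ▸ dvd_of_mul_right_dvd hdvd))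
  rw [hi0, pow_zero] at hi
  rw [hi, mul_one] at he
  exact le_trans (le_of_eq (Subgroup.eq_of_le_of_card_ge inf_le_left he.le).symm) inf_le_right

variable (D)

/-- A monomial conjugate of a reflection is a reflection, unless two planes are fused. -/
theorem swap_lemma (hodd : Odd (Fintype.card F)) (hS : Sm D) {S : Finset α} {M : Subgroup (Spg α F)}
    (hM : M ≤ SpS F S) (hB : BS D S ≤ M) (hP : ¬ Pair hodd D M) {g : Spg α F} (hg : g ∈ M) {a : α} (ha : a ∈ S)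
    (hs : g * tInv a * g⁻¹ ∈ Mon α F) : ∃ b, g * tInv a * g⁻¹ = tInv b := by
  by_contra hno
  push_neg at hno
  have h2 : (2 : F) ≠ 0 := two_ne_zero_of_odd hodd
  have haM : ∀ k ∈ (D.P : Subgroup (SL F)), rho a k ∈ M := fun k hk => hB (rho_mem_BS D ha hk)
  have hsM : g * tInv a * g⁻¹ ∈ M := mul_mem (mul_mem hg (haM _ (negOne_mem D))) (inv_mem hg)
  obtain ⟨R, x, hR, hBR, hRM, hx, hxs⟩ := exists_conj_sylow (M := M ⊓ Mon α F) (isPGroup_BS D S)
    (le_inf hB (BS_le_Mon D S)) ⟨hsM, hs⟩ (by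
      rw [show g * tInv a * g⁻¹ * (g * tInv a * g⁻¹) = g * (tInv a * tInv a) * g⁻¹ by group, tInv_sq,
        mul_one, mul_inv_cancel])
  set y := x * g with hy
  have hyM : y ∈ M := mul_mem hx.1 hg
  have hys : y * tInv a * y⁻¹ ∈ R := by
    rwa [show y * tInv a * y⁻¹ = x * (g * tInv a * g⁻¹) * x⁻¹ by rw [hy]; group]
  rcases tInv_or_swap hodd (hRM hys).2 with ⟨d, hd⟩ | ⟨b, c, δ, hw⟩
  · obtain ⟨σ, hσ⟩ := mono_tInv (inv_mem hx.2)
    refine hno (σ d) ?_
    rw [← hσ d, ← hd, hy]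
    group
  obtain ⟨fs, τ, hfs⟩ := (hRM hys).2
  have he : (![1, 0] : Fin 2 → F) ≠ 0 := fun e => by simpa using congrFun e 0
  have hbS : b ∈ S := by
    by_contra hb
    have h1 := hM (hRM hys).1 b hb ![1, 0]
    rw [hw.smul_emb] at h1
    exact hw.1 (eq_of_emb_eq he h1.symm)
  have hτ : τ b = c ∧ fs c = δ := by
    have h1 : ∀ z, emb (τ b) (mt (fs (τ b)) *ᵥ z) = emb c (mt δ *ᵥ z) := fun z => by
      rw [← smul_emb_mono, ← hfs, hw.smul_emb]
    have h3 : τ b = c := (eq_of_emb_eq (fun e => he (by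
      rw [← mulVec_inv_cancel δ ![1, 0], e, Matrix.mulVec_zero])) (h1 ![1, 0]).symm).symm
    refine ⟨h3, SL_ext fun z => ?_⟩
    have := h1 z
    rw [h3] at this
    exact emb_injective c this
  have hδ : δ ∈ Subgroup.normalizer ((D.P : Subgroup (SL F)) : Set (SL F)) := by
    have h1 := blocks_normalise hR hBR (hRM.trans (inf_le_left.trans hM)) (hfs ▸ hys) hbS
    rwa [hτ.1, hτ.2] at h1
  have hbc := hw.1
  have hcS : c ∈ S := by
    by_contra hc
    have h1 := hM (hRM hys).1 c hc (mt δ *ᵥ (![1, 0] : Fin 2 → F))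
    rw [← hw.smul_emb, ← mul_smul, show y * tInv a * y⁻¹ * (y * tInv a * y⁻¹) = y * (tInv a * tInv a) * y⁻¹ by
      group, tInv_sq, mul_one, mul_inv_cancel, one_smul, hw.smul_emb] at h1
    exact hbc (eq_of_emb_eq he h1)
  -- the subgroup of the elements of `SL₂` realised in `M`
  let K : Subgroup (SL F) :=
    { carrier := {h | ∃ m ∈ M, UProp b c δ m h}
      one_mem' := ⟨1, one_mem M, UProp.one⟩
      mul_mem' := fun ⟨m, hm, H⟩ ⟨m', hm', H'⟩ => ⟨m * m', mul_mem hm hm', H.mul H'⟩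
      inv_mem' := fun ⟨m, hm, H⟩ => ⟨m⁻¹, inv_mem hm, H.inv⟩ }
  have hfix : ∀ k, ∀ v : Vec α F, bl c v = mt δ *ᵥ bl b v → (y * rho a k * y⁻¹) • v = v := fun k v hv =>
    conj_fix hodd (hw.fix hv) k
  choose φ hφ using fun k : SL F => UProp.exists_of_fix hbc (hfix k) h2
  let Φ : SL F →* SL F :=
    { toFun := φ
      map_one' := (hφ 1).unique hbc (by rw [map_one, mul_one, mul_inv_cancel]; exact UProp.one)
      map_mul' := fun k k' => (hφ (k * k')).unique hbc (by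
        rw [map_mul, show y * (rho a k * rho a k') * y⁻¹ = y * rho a k * y⁻¹ * (y * rho a k' * y⁻¹) by group]
        exact (hφ k).mul (hφ k')) }
  have hΦ : Function.Injective Φ := (injective_iff_map_eq_one Φ).2 fun k hk => by
    have H := hφ k
    rw [show φ k = 1 from hk] at H
    have h1 : y * rho a k * y⁻¹ = 1 := symp_ext fun v => bl_ext fun d => by
      obtain ⟨a1, a2, a3⟩ := H.coord hbc h2 v
      rw [one_smul]
      simp only [mt_one, sub_self, Matrix.zero_mulVec, add_zero, zero_add] at a1 a2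
      rcases eq_or_ne d b with rfl | hdb
      · refine smul_right_injective (Fin 2 → F) h2 ?_
        show (2 : F) • _ = (2 : F) • _
        rw [a1, Matrix.add_mulVec, Matrix.one_mulVec, two_smul]
      rcases eq_or_ne d c with rfl | hdc
      · have h := a2
        rw [Matrix.add_mulVec, Matrix.one_mulVec, ← two_smul F] at h
        exact Function.LeftInverse.injective (mulVec_cancel_inv δ) (smul_right_injective (Fin 2 → F) h2 h)
      · exact a3 d hdb hdc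
    rw [conj_eq_one_iff] at h1
    exact rho_injective a (h1.trans (map_one _).symm)
  have hQK : (D.P : Subgroup (SL F)) ≤ K := by
    have : Fact (Nat.Prime 2) := ⟨Nat.prime_two⟩
    refine sylow_le_of_normalized D.P (K₀ := (D.P : Subgroup (SL F)).map Φ) ?_
      (Subgroup.card_map_of_injective hΦ) ?_
    · rintro _ ⟨k, hk, rfl⟩
      exact ⟨_, mul_mem (mul_mem hyM (haM k hk)) (inv_mem hyM), hφ k⟩
    · intro k hk
      refine mem_normalizer_of_fin fun h ⟨m, hm, H⟩ => ?_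
      set k' := δ * k * δ⁻¹ with hk'
      have hdM : rho b k * rho c k' ∈ M :=
        mul_mem (hB (rho_mem_BS D hbS hk)) (hB (rho_mem_BS D hcS (conj_mem_of_normalizer hδ hk)))
      refine ⟨_, mul_mem (mul_mem hdM hm) (inv_mem hdM), ?_⟩
      set d := rho b k * rho c k' with hd
      have hdU : ∀ z, d • U b c δ z = U b c δ (mt k *ᵥ z) := fun z => by
        rw [hd, mul_smul, U, smul_sub, smul_sub, rho_apply c, smul_emb_base, smul_emb_base,
          Pi.mulSingle_eq_of_ne hbc, Pi.mulSingle_eq_same, mt_one, Matrix.one_mulVec, rho_apply b, smul_emb_base,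
          smul_emb_base, Pi.mulSingle_eq_same, Pi.mulSingle_eq_of_ne hbc.symm, mt_one, Matrix.one_mulVec, U,
          Matrix.mulVec_mulVec, Matrix.mulVec_mulVec, ← mt_mul, ← mt_mul, hk', inv_mul_cancel_right]
      have hdfix : ∀ v : Vec α F, bl c v = mt δ *ᵥ bl b v → bl c (d⁻¹ • v) = mt δ *ᵥ bl b (d⁻¹ • v) := fun v hv => by
        rw [hd, _root_.mul_inv_rev, ← map_inv, ← map_inv, mul_smul, bl_rho_self, bl_rho_ne hbc.symm,
          bl_rho_ne hbc, bl_rho_self, hv, Matrix.mulVec_mulVec, Matrix.mulVec_mulVec,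
          ← mt_mul, ← mt_mul, hk', show (δ * k * δ⁻¹)⁻¹ * δ = δ * k⁻¹ by group]
      refine ⟨fun v hv => ?_, fun z => ?_⟩
      · rw [mul_smul, mul_smul, H.1 _ (hdfix v hv), smul_inv_smul]
      · have hi : d⁻¹ • U b c δ z = U b c δ (mt k⁻¹ *ᵥ z) := by
          rw [inv_smul_eq_iff, hdU, mulVec_cancel_inv]
        rw [mul_smul, mul_smul, hi, H.2, hdU, Matrix.mulVec_mulVec, Matrix.mulVec_mulVec, ← mt_mul, ← mt_mul]
  obtain ⟨g1, hg1, H1⟩ := hQK D.hi
  obtain ⟨g2, hg2, H2⟩ := hQK (mul_mem D.hj D.hi)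
  have hprod := mul_mem (mul_mem hg1 (hB (rho_mem_BS D hbS D.hj))) hg2
  rw [H1.product hodd hbc H2] at hprod
  set t := tEl D hodd
  have ht := tEl_mem_normalizer hodd hS
  refine hP ⟨b, c, hbc, ?_⟩
  have hp1 : t⁻¹ * (D.i * D.j) * t ∈ (D.P : Subgroup (SL F)) := by
    simpa using conj_mem_of_normalizer (inv_mem ht) (ij_mem D)
  have hp2 : δ * t⁻¹ * δ⁻¹ * t⁻¹⁻¹ * (t⁻¹ * (δ * D.j * δ⁻¹) * t⁻¹⁻¹) ∈ (D.P : Subgroup (SL F)) :=
    mul_mem (comm_mem hodd hS hδ (inv_mem ht))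
      (conj_mem_of_normalizer (inv_mem ht) (conj_mem_of_normalizer hδ D.hj))
  have hsplit : rho b (t⁻¹ * (D.i * D.j)) * rho c (δ * (t⁻¹ * D.j) * δ⁻¹) =
      rho b (t⁻¹ * (D.i * D.j) * t) * rho c (δ * t⁻¹ * δ⁻¹ * t⁻¹⁻¹ * (t⁻¹ * (δ * D.j * δ⁻¹) * t⁻¹⁻¹)) *
        (rho c t * rho b t)⁻¹ := by
    rw [show δ * t⁻¹ * δ⁻¹ * t⁻¹⁻¹ * (t⁻¹ * (δ * D.j * δ⁻¹) * t⁻¹⁻¹) = δ * (t⁻¹ * D.j) * δ⁻¹ * t by group]
    set p := t⁻¹ * (D.i * D.j)
    set q := δ * (t⁻¹ * D.j) * δ⁻¹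
    rw [map_mul (rho b) p t, map_mul (rho c) q t, _root_.mul_inv_rev, mul_assoc (rho b p), mul_assoc (rho b p)]
    congr 1
    rw [← mul_assoc (rho b t), (rho_commute hbc t (q)).eq, mul_assoc (rho c q) (rho b t),
      (rho_commute hbc t t).eq]
    group
  rw [hsplit] at hprod
  have h1 := (Subgroup.mul_mem_cancel_left M (mul_mem (hB (rho_mem_BS D hbS hp1))
    (hB (rho_mem_BS D hcS hp2)))).1 hprod
  rw [(rho_commute hbc t t).eq]
  exact (Subgroup.inv_mem_iff M).1 h1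

end CfsgLib.PronormalPSp
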